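import Cfsg.Agent.Lib.ConjType.Core

/-!
The bad case, where no element of prime power order has an order dividing its class size `n` or
`m`, is impossible.
-/

set_option autoImplicit false
set_option linter.style.haveILetI false
set_option linter.unusedSectionVars false

namespace CfsgLib.ConjType

open CfsgLib.CentMaxNormal (cen mem_cen mem_cen_comm self_mem_cen center_le_cen cen_le_cen_of_mem
  mem_zpowers_mul mem_of_prime_power_parts)

variable {G : Type*} [Group G] [Finite G]

namespace Cfg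

/-- All primary elements of class size `n` have order prime to `n`. -/
def Bad (G : Type*) [Group G] (n : ℕ) : Prop :=
  ∀ (p : ℕ) (e : G), p.Prime → PE p e → (cen e).index = n → ¬ p ∣ n

variable {n m : ℕ} (H : Cfg G n m)
include H

theorem dvd_m_of_bad (hbn : Bad G n) {x : G} {p : ℕ} (hp : p.Prime) (hxp : PE p x)
    (hx : (cen x).index = n) : p ∣ m := by
  by_contra hpm
  refine H.not_center hx (mem_center_of_not_dvd hp (fun g hd => ?_) hxp)
  rcases H.val g with e | e | e | e <;> rw [e] at hd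
  · exact hp.not_dvd_one hd
  · exact hbn p x hp hxp hx hd
  · exact hpm hd
  · exact (hp.dvd_mul.mp hd).elim (hbn p x hp hxp hx) hpm

/-- A noncommuting pair whose product has class size `n` is impossible. -/
theorem false_of_noncomm (hbn : Bad G n) (hbm : Bad G m) {x y : G} {p q : ℕ}
    (hp : p.Prime) (hq : q.Prime) (hxp : PE p x) (hyq : PE q y) (hx : (cen x).index = n)
    (hy : (cen y).index = m) (hne : x ∉ cen y) (hxy : (cen (x * y)).index = n) : False := by
  haveI := Fact.mk hp
  haveI := Fact.mk hq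
  have hpn := hbn p x hp hxp hx
  have hqm := hbm q y hq hyq hy
  have hqn : q ∣ n := H.symm.dvd_m_of_bad hbm hq hyq hy
  have hpq : p ≠ q := fun h => hpn (h ▸ hqn)
  obtain ⟨Y, M, -, hMn, hYq, hMY, -, hfree, hconj, u, hu, hu1, hum⟩ :=
    H.core hp hq hpq hxp hyq hx hy hne hxy
  haveI := hMn
  have huq : PE q u := hYq u (hMY hu)
  set Z := Subgroup.center G with hZ
  set X := Subgroup.normalClosure ({x} : Set G) with hX
  set K := Subgroup.centralizer (X : Set G) with hK
  haveI hXn : X.Normal := Subgroup.normalClosure_normal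
  haveI hKn : K.Normal := inferInstance
  have hxX : x ∈ X := Subgroup.subset_normalClosure rfl
  have hKx : ∀ k ∈ K, k ∈ cen x := fun k hk =>
    mem_cen.mpr (Subgroup.mem_centralizer_iff.mp hk x hxX).symm
  have hKM : ∀ k ∈ K, k ∈ M → k = 1 := fun k hk hkM => hfree k hkM (hKx k hk)
  -- the `q`-elements of `cen x`
  have hsmall : ∀ w ∈ cen x, PE q w → ((cen w).index = 1 ∨ (cen w).index = m) ∧ w ∈ K := by
    intro w hw hwq
    have hidx : (cen w).index = 1 ∨ (cen w).index = m := by
      rcases H.val w with e | e | e | e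
      · exact .inl e
      · exact absurd hqn (hbn q w hq hwq e)
      · exact .inr e
      · exfalso
        have hle : cen w ≤ cen x :=
          H.le_of_nm e (mem_cen_comm.mp hw) (hwq.coprime' hq hp hpq.symm hxp)
        obtain ⟨g, -, hg⟩ := exists_conj_of_relIndex (F := cen y) (W := ⊤) hq
          (by rw [Subgroup.relIndex_top_right, hy]; exact hqm) (Subgroup.mem_top w) hwq
        have h1 : g⁻¹ * y * g ∈ cen x := hle (mem_cen_comm.mp (conj_mem_cen_iff.mp hg))
        refine hne (H.commute_conj' (g := g) hx hy ?_)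
        rw [conj_mem_cen_iff]
        exact mem_cen_comm.mp h1
    refine ⟨hidx, Subgroup.mem_centralizer_iff.mpr fun z hz => ?_⟩
    have hle : X ≤ cen w := by
      rw [hX, Subgroup.normalClosure, Subgroup.closure_le]
      intro z hz
      obtain ⟨x', hx', hzc⟩ := Group.mem_conjugatesOfSet_iff.mp hz
      rw [Set.mem_singleton_iff] at hx'
      obtain ⟨g, rfl⟩ := isConj_iff.mp (hx' ▸ hzc)
      rcases hidx with e | e
      · exact mem_cen_comm.mp (center_le_cen _ (index_eq_one_iff.mp e))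
      · rw [SetLike.mem_coe, conj_mem_cen_iff]
        simpa using H.commute_conj (g := g⁻¹) hx e (mem_cen_comm.mp hw)
    exact mem_cen.mp (hle hz)
  -- they are central
  have hcentral : ∀ w ∈ cen x, PE q w → w ∈ Z := by
    intro t ht htq
    obtain ⟨htidx, htK⟩ := hsmall t ht htq
    rcases htidx with e | e
    · exact index_eq_one_iff.mp e
    exfalso
    have hcut : cen (u * t) = cen u ⊓ cen t := by
      refine le_antisymm (fun g hg => ?_) fun g hg =>
        mem_cen.mpr (Commute.mul_right (mem_cen.mp hg.1 : Commute g u) (mem_cen.mp hg.2))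
      have h1 : g * (u * t) * g⁻¹ = u * t := by rw [mem_cen.mp hg]; group
      have h2 : u⁻¹ * (g * u * g⁻¹) = t * (g * t * g⁻¹)⁻¹ := by
        calc u⁻¹ * (g * u * g⁻¹)
            = u⁻¹ * (g * (u * t) * g⁻¹) * (g * t * g⁻¹)⁻¹ := by group
          _ = _ := by rw [h1]; group
      have h3 : u⁻¹ * (g * u * g⁻¹) = 1 := hKM _
        (h2 ▸ K.mul_mem htK (K.inv_mem (hKn.conj_mem t htK g)))
        (M.mul_mem (M.inv_mem hu) (hMn.conj_mem u hu g))
      have h4 : g * u * g⁻¹ = u := (inv_mul_eq_one.mp h3).symm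
      rw [h2, mul_inv_eq_one] at h3
      exact ⟨mem_cen.mpr (mul_inv_eq_iff_eq_mul.mp h4),
        mem_cen.mpr (mul_inv_eq_iff_eq_mul.mp h3.symm)⟩
    have hle : cen (u * t) ≤ cen t := hcut ▸ inf_le_right
    have hrel := Subgroup.relIndex_mul_index hle
    rw [e] at hrel
    have hnd : ¬ p ∣ (cen (u * t)).relIndex (cen t) := by
      rcases H.symm.index_mult_n (g := u * t) (Dvd.intro_left _ hrel) with e' | e'
      · rw [e'] at hrel
        rw [(Nat.mul_eq_right H.symm.n_pos.ne').mp hrel]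
        exact hp.not_dvd_one
      · rw [e', mul_comm m n] at hrel
        rw [mul_right_cancel₀ H.symm.n_pos.ne' hrel]
        exact hpn
    obtain ⟨g, -, hg⟩ := exists_conj_of_relIndex hp hnd (mem_cen_comm.mp (hKx t htK)) hxp
    have h1 : g * x * g⁻¹ ∈ cen u := (hcut.le hg).1
    refine hu1 ?_
    have h2 : g⁻¹ * u * g ∈ cen x := mem_cen_comm.mp (conj_mem_cen_iff.mp h1)
    have h3 := hfree _ (by simpa using hMn.conj_mem u hu g⁻¹) h2
    calc u = g * (g⁻¹ * u * g) * g⁻¹ := by group
      _ = 1 := by rw [h3]; group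
  -- centralizers of elements of class size `n` or `n * m`
  have hqcen : ∀ g : G, (cen g).index = n ∨ (cen g).index = n * m →
      ∀ v ∈ cen g, PE q v → v ∈ Z := by
    intro g hg v hv hvq
    set F := cen g ⊓ cen x with hF
    have h0 : ¬ q ∣ F.relIndex (cen x) := not_dvd_relIndex hq fun w hw hwq =>
      ⟨center_le_cen g (hcentral w hw hwq), hw⟩
    have h1 := Subgroup.relIndex_mul_index (inf_le_right : F ≤ cen x)
    have h2 := Subgroup.relIndex_mul_index (inf_le_left : F ≤ cen g)
    rw [hx] at h1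
    have h3 : ¬ q ∣ F.relIndex (cen g) := by
      rcases hg with e | e
      · rw [e, ← h1] at h2
        rw [mul_right_cancel₀ H.n_pos.ne' h2]
        exact h0
      · rw [e, ← h1, mul_comm n m, ← mul_assoc] at h2
        intro hd
        exact h0 ((mul_right_cancel₀ H.n_pos.ne' h2) ▸ hd.mul_right m)
    obtain ⟨h, -, hh⟩ := exists_conj_of_relIndex hq h3 hv hvq
    have h4 := hcentral _ hh.2 (hvq.conj h)
    have h5 := Subgroup.center G |>.mul_mem h4 (Subgroup.one_mem _)
    have h6 : h⁻¹ * (h * v * h⁻¹) * h⁻¹⁻¹ ∈ Z :=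
      (inferInstance : (Subgroup.center G).Normal).conj_mem _ h4 h⁻¹
    simpa [mul_assoc] using h6
  have hqidx : ∀ v : G, PE q v → (cen v).index = 1 ∨ (cen v).index = m := by
    intro v hv
    rcases H.val v with e | e | e | e
    · exact .inl e
    · exact absurd hqn (hbn q v hq hv e)
    · exact .inr e
    · exact .inl (index_eq_one_iff.mpr (hqcen v (.inr e) v (self_mem_cen v) hv))
  -- every `q`-element lies in a normal `q`-subgroup
  have hnormal : ∀ v : G, PE q v → ∀ P : Sylow q G, v ∈ (P : Subgroup G) := by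
    intro v hv P
    obtain ⟨k, hk⟩ := hv
    obtain ⟨g, hg⟩ := TwoClassSizes.exists_conj_mem P hk
    rcases hqidx v ⟨k, hk⟩ with e | e
    · have h1 : g * v * g⁻¹ = v := by
        rw [Subgroup.mem_center_iff.mp (index_eq_one_iff.mp e) g]; group
      rwa [h1] at hg
    have hnev : x ∉ cen v := fun h => by
      have := hcentral v (mem_cen_comm.mp h) ⟨k, hk⟩
      exact H.symm.not_center e this
    rcases H.product_index hx e hnev with hxv | hxv
    · obtain ⟨Y', -, hY'n, -, hY'q, -, hvY', -⟩ := H.core hp hq hpq hxp ⟨k, hk⟩ hx e hnev hxv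
      haveI := hY'n
      have hYp : IsPGroup q Y' := by
        rw [IsPGroup.iff_orderOf]
        intro a
        obtain ⟨i, hi⟩ := hY'q a a.2
        exact ⟨i, by rw [← hi, Subgroup.orderOf_coe]⟩
      obtain ⟨s, hs⟩ := TwoClassSizes.exists_conj_le hYp P
      have := hs _ (hY'n.conj_mem v hvY' s⁻¹)
      simpa [mul_assoc] using this
    · exfalso
      have hvx : (cen (v * x)).index = m := by
        rw [← hxv, ← index_cen_conj x (v * x)]
        simp [mul_assoc]
      obtain ⟨X', -, hX'n, -, hX'p, -, hxX', -⟩ := H.symm.core hq hp hpq.symm ⟨k, hk⟩ hxp e hx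
        (fun h => hnev (mem_cen_comm.mp h)) hvx
      have hc : x * u * x⁻¹ * u⁻¹ = 1 := by
        have h1 : x * u * x⁻¹ * u⁻¹ ∈ M := M.mul_mem (hMn.conj_mem u hu x) (M.inv_mem hu)
        have h2 : x * (u * x⁻¹ * u⁻¹) ∈ X' :=
          X'.mul_mem hxX' (hX'n.conj_mem _ (X'.inv_mem hxX') u)
        rw [← mul_assoc, ← mul_assoc] at h2
        rw [← orderOf_eq_one_iff]
        exact Nat.eq_one_of_dvd_coprimes ((hX'p _ h2).coprime' hp hq hpq (hYq _ (hMY h1)))
          dvd_rfl dvd_rfl
      refine hu1 (hfree u hu (mem_cen.mpr ?_))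
      exact (mul_inv_eq_iff_eq_mul.mp (mul_inv_eq_one.mp hc)).symm
  obtain ⟨Q⟩ := (inferInstance : Nonempty (Sylow q G))
  have hQall : ∀ v : G, PE q v → v ∈ (Q : Subgroup G) := fun v hv => hnormal v hv Q
  have hQPE : ∀ v ∈ (Q : Subgroup G), PE q v := fun v hv => by
    obtain ⟨k, hk⟩ := IsPGroup.iff_orderOf.mp Q.isPGroup' ⟨v, hv⟩
    exact ⟨k, by rw [← hk, Subgroup.orderOf_mk]⟩
  haveI hQn : (Q : Subgroup G).Normal := ⟨fun v hv g => hQall _ ((hQPE v hv).conj g)⟩
  have hfull : ∀ g : G, (cen g).index = 1 ∨ (cen g).index = m →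
      ∀ v : G, PE q v → v ∈ cen g := by
    intro g hg v hv
    obtain ⟨P, hP⟩ := exists_sylow_le (W := cen g) (q := q) (by
      rcases hg with e | e <;> rw [e]
      · exact hq.not_dvd_one
      · exact hqm)
    exact hP (hnormal v hv P)
  set Hc := Subgroup.centralizer ((Q : Subgroup G) : Set G) with hHc
  haveI hHn : Hc.Normal := inferInstance
  have huQ : u ∈ (Q : Subgroup G) := hQall u huq
  have huZ : u ∉ Z := H.symm.not_center hum
  have hfix : ∀ g : G, g ∈ cen u → g ∈ Hc := by
    intro g hg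
    refine Subgroup.mem_centralizer_iff.mpr fun v hv => ?_
    rcases H.val g with e | e | e | e
    · exact mem_cen.mp (hfull g (.inl e) v (hQPE v hv))
    · exact absurd (hqcen g (.inl e) u (mem_cen_comm.mp hg) huq) huZ
    · exact mem_cen.mp (hfull g (.inr e) v (hQPE v hv))
    · exact absurd (hqcen g (.inr e) u (mem_cen_comm.mp hg) huq) huZ
  have hHu : cen u = Hc := le_antisymm hfix fun g hg =>
    mem_cen.mpr (Subgroup.mem_centralizer_iff.mp hg u huQ).symm
  have hHi : Hc.index = m := hHu ▸ hum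
  have hHab : ∀ h ∈ Hc, Hc ≤ cen h := by
    intro h hh g hg
    rw [mem_cen_comm]
    refine mem_of_prime_power_parts fun z hz t k ht htk => ?_
    have hzH : z ∈ Hc := Subgroup.zpowers_le.mpr hh hz
    by_cases htq : t = q
    · subst htq
      exact mem_cen.mpr (Subgroup.mem_centralizer_iff.mp hg z (hQall z ⟨k, htk⟩))
    · refine mem_cen_comm.mp ?_
      have hcop : (orderOf z).Coprime (orderOf u) := PE.coprime' ht hq htq ⟨k, htk⟩ huq
      have hzu : z ∈ cen u := hHu ▸ hzH
      have hcut := cen_mul_of_coprime (mem_cen.mp hzu) hcop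
      have hle : cen (z * u) ≤ Hc := hcut ▸ (hHu ▸ inf_le_right)
      rcases H.symm.index_mult_n (g := z * u) (hHi ▸ Subgroup.index_dvd_of_le hle) with e | e
      · have heq := eq_of_le_of_index hle (e.trans hHi.symm)
        exact (hcut.le (heq.symm ▸ hg : g ∈ cen (z * u))).1
      · exfalso
        refine huZ (hqcen (z * u) (.inr (e.trans (mul_comm m n))) u ?_ huq)
        rw [hcut]
        exact ⟨mem_cen_comm.mp hzu, self_mem_cen u⟩
  have hoff : ∀ g, g ∉ Hc → Hc ⊓ cen g = Z := by
    intro g hg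
    refine le_antisymm (fun h hh => ?_) (le_inf (Subgroup.center_le_centralizer _) (center_le_cen g))
    rcases H.symm.index_dvd_n (hHi ▸ Subgroup.index_dvd_of_le (hHab h hh.1)) with e | e
    · exact index_eq_one_iff.mp e
    · exact absurd ((eq_of_le_of_index (hHab h hh.1) (hHi.trans e.symm)).symm ▸
        mem_cen_comm.mp hh.2) hg
  have hcount : ∀ g, g ∉ Hc → ∃ c, c ∣ m ∧ c ≠ 1 ∧
      (cen g).index * c = m * Z.relIndex Hc := by
    intro g hg
    refine ⟨Hc.relIndex (cen g), hHi ▸ Subgroup.relIndex_dvd_index_of_normal Hc _, fun h1 => ?_, ?_⟩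
    · exact hg (Subgroup.relIndex_eq_one.mp h1 (self_mem_cen g))
    · have h1 := Subgroup.relIndex_mul_index (inf_le_left : Hc ⊓ cen g ≤ Hc)
      have h2 := Subgroup.relIndex_mul_index (inf_le_right : Hc ⊓ cen g ≤ cen g)
      rw [Subgroup.inf_relIndex_right] at h2
      rw [hoff g hg] at h1 h2
      rw [mul_comm, h2, ← h1, hHi, mul_comm]
  have hxH : x ∉ Hc := fun h => hu1 (hfree u hu (mem_cen_comm.mp (hHu.symm ▸ h)))
  obtain ⟨c, hc1, -, hc2⟩ := hcount x hxH
  rw [hx] at hc2
  have hcm : c = m := Nat.dvd_antisymm hc1 (H.cop.symm.dvd_of_dvd_mul_left (Dvd.intro _ hc2.symm))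
  rw [hcm, mul_comm n m] at hc2
  have hh : Z.relIndex Hc = n := (mul_left_cancel₀ H.symm.n_pos.ne' hc2).symm
  obtain ⟨z, hz⟩ := H.exnm
  have hzH : z ∉ Hc := fun h => by
    have h1 := Subgroup.index_dvd_of_le (hHab z h)
    rw [hz, hHi] at h1
    exact H.not_n_dvd_m ((dvd_mul_right n m).trans h1)
  obtain ⟨c', -, hc'1, hc'2⟩ := hcount z hzH
  rw [hz, hh, mul_comm m n] at hc'2
  exact hc'1 ((Nat.mul_eq_left (Nat.mul_pos H.n_pos H.symm.n_pos).ne').mp hc'2)

/-- All pairs commute. -/
theorem commute_of_bad (hbn : Bad G n) (hbm : Bad G m) {x y : G} {p q : ℕ} (hp : p.Prime)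
    (hq : q.Prime) (hxp : PE p x) (hyq : PE q y) (hx : (cen x).index = n)
    (hy : (cen y).index = m) : x ∈ cen y := by
  by_contra hne
  rcases H.product_index hx hy hne with e | e
  · exact H.false_of_noncomm hbn hbm hp hq hxp hyq hx hy hne e
  · refine H.symm.false_of_noncomm hbm hbn hq hp hyq hxp hy hx (fun h => hne (mem_cen_comm.mp h)) ?_
    rw [← e, ← index_cen_conj x (y * x)]
    simp [mul_assoc]

/-- An element of class size `n * m` centralizes an element of class size `n`. -/
theorem exists_n_element (hbn : Bad G n) (hbm : Bad G m) {x y w : G} {p q : ℕ} (hp : p.Prime)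
    (hq : q.Prime) (hpq : p ≠ q) (hxp : PE p x) (hx : (cen x).index = n)
    (hy : (cen y).index = m) (hxy : x ∈ cen y) (hpm : p ∣ m) (hwq : PE q w)
    (hw : (cen w).index = n * m) : ∃ x1 : G, PE p x1 ∧ (cen x1).index = n ∧ x1 ∈ cen w := by
  have hpn := hbn p x hp hxp hx
  set D := cen x ⊓ cen y with hD
  have hDi : D.index = n * m := H.inf_index hx hy
  have hxD : x ∈ D := ⟨self_mem_cen x, hxy⟩
  obtain ⟨e, hew, hep, heZ⟩ : ∃ e ∈ cen w, PE p e ∧ e ∉ Subgroup.center G := by
    by_contra! hall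
    have h0 : ¬ p ∣ (cen w ⊓ D).relIndex (cen w) := not_dvd_relIndex hp fun e he hep =>
      ⟨he, Subgroup.mem_inf.mpr ⟨center_le_cen x (hall e he hep), center_le_cen y (hall e he hep)⟩⟩
    have h1 := Subgroup.relIndex_mul_index (inf_le_left : cen w ⊓ D ≤ cen w)
    have h2 := Subgroup.relIndex_mul_index (inf_le_right : cen w ⊓ D ≤ D)
    rw [hw] at h1
    rw [hDi, ← h1] at h2
    rw [← mul_right_cancel₀ (Nat.mul_pos H.n_pos H.symm.n_pos).ne' h2] at h0
    obtain ⟨h, -, hh⟩ := exists_conj_of_relIndex hp h0 hxD hxp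
    have h3 := hall _ hh.1 (hxp.conj h)
    have h4 : h⁻¹ * (h * x * h⁻¹) * h⁻¹⁻¹ ∈ Subgroup.center G :=
      (inferInstance : (Subgroup.center G).Normal).conj_mem _ h3 h⁻¹
    exact H.not_center hx (by simpa [mul_assoc] using h4)
  rcases H.val e with e1 | e1 | e1 | e1
  · exact absurd (index_eq_one_iff.mp e1) heZ
  · exact ⟨e, hep, e1, hew⟩
  · exact absurd hpm (hbm p e hp hep e1)
  · obtain ⟨g, -, hg⟩ := exists_conj_of_relIndex (F := cen x) (W := ⊤) hp
      (by rw [Subgroup.relIndex_top_right, hx]; exact hpn) (Subgroup.mem_top e) hep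
    have heq : cen w = cen e := eq_of_le_of_index
      (H.le_of_nm hw hew (hwq.coprime' hq hp hpq.symm hep)) (hw.trans e1.symm)
    refine ⟨g⁻¹ * x * g, by simpa using hxp.conj g⁻¹, ?_, ?_⟩
    · simpa using (index_cen_conj g⁻¹ x).trans hx
    · rw [heq]
      exact mem_cen_comm.mp (conj_mem_cen_iff.mp hg)

/-- Some `q`-element of class size `n * m` lies in `cen x ⊓ cen y`. -/
theorem exists_nm_element (hbn : Bad G n) (hbm : Bad G m) {x y : G} {p q : ℕ} (hp : p.Prime)
    (hq : q.Prime) (hpq : p ≠ q) (hxp : PE p x) (hyq : PE q y) (hx : (cen x).index = n)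
    (hy : (cen y).index = m) : ∃ w ∈ cen x ⊓ cen y, PE q w ∧ (cen w).index = n * m := by
  have hxy := H.commute_of_bad hbn hbm hp hq hxp hyq hx hy
  have hpm := H.dvd_m_of_bad hbn hp hxp hx
  have hqn := H.symm.dvd_m_of_bad hbm hq hyq hy
  have hqm := hbm q y hq hyq hy
  suffices ∃ w ∈ cen x, PE q w ∧ (cen w).index = n * m by
    obtain ⟨w, hw, hwq, hwi⟩ := this
    have h1 := Subgroup.relIndex_mul_index (inf_le_left : cen x ⊓ cen y ≤ cen x)
    rw [hx, H.inf_index hx hy, mul_comm n m] at h1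
    obtain ⟨h, -, hh⟩ := exists_conj_of_relIndex (F := cen x ⊓ cen y) (W := cen x) hq
      (by rw [mul_right_cancel₀ H.n_pos.ne' h1]; exact hqm) hw hwq
    exact ⟨_, hh, hwq.conj h, by rw [index_cen_conj, hwi]⟩
  by_contra! hno
  set S : Set G := {e | PE p e ∧ (cen e).index = n} with hS
  set K := Subgroup.centralizer S with hK
  haveI hKn : K.Normal := ⟨fun k hk g => Subgroup.mem_centralizer_iff.mpr fun e he => by
    have h1 := Subgroup.mem_centralizer_iff.mp hk (g⁻¹ * e * g)
      ⟨by simpa using he.1.conj g⁻¹, by simpa using (index_cen_conj g⁻¹ e).trans he.2⟩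
    calc e * (g * k * g⁻¹) = g * (g⁻¹ * e * g * k) * g⁻¹ := by group
      _ = g * (k * (g⁻¹ * e * g)) * g⁻¹ := by rw [h1]
      _ = g * k * g⁻¹ * e := by group⟩
  have hKle : ∀ e, PE p e → (cen e).index = n → K ≤ cen e := fun e he hei k hk =>
    mem_cen.mpr (Subgroup.mem_centralizer_iff.mp hk e ⟨he, hei⟩).symm
  have hcenK : ∀ w, PE q w → (cen w).index = 1 ∨ (cen w).index = m → w ∈ K := fun w hwq hw =>
    Subgroup.mem_centralizer_iff.mpr fun e he => by
      rcases hw with e1 | e1
      · exact (Subgroup.mem_center_iff.mp (index_eq_one_iff.mp e1) e)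
      · exact mem_cen.mp (H.commute_of_bad hbn hbm hp hq he.1 hwq he.2 e1)
  have hWK : ∀ w ∈ cen x, PE q w → w ∈ K := fun w hw hwq => by
    refine hcenK w hwq ?_
    rcases H.val w with e | e | e | e
    · exact .inl e
    · exact absurd hqn (hbn q w hq hwq e)
    · exact .inr e
    · exact absurd e (hno w hw hwq)
  have hall : ∀ w, PE q w → w ∈ cen x := by
    intro w hwq
    refine hKle x hxp hx ?_
    rcases H.val w with e | e | e | e
    · exact hcenK w hwq (.inl e)
    · exact absurd hqn (hbn q w hq hwq e)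
    · exact hcenK w hwq (.inr e)
    · obtain ⟨x1, hx1p, hx1, hx1w⟩ :=
        H.exists_n_element hbn hbm hp hq hpq hxp hx hy hxy hpm hwq e
      refine mem_of_relIndex hq ?_ (mem_cen_comm.mp hx1w : w ∈ cen x1) hwq
      have h1 := Subgroup.relIndex_mul_index (hKle x1 hx1p hx1)
      have h2 := Subgroup.relIndex_mul_index (hKle x hxp hx)
      rw [hx1] at h1
      rw [hx, ← h1] at h2
      rw [← mul_right_cancel₀ H.n_pos.ne' h2]
      exact not_dvd_relIndex hq hWK
  refine not_dvd_relIndex (F := cen x) (C := ⊤) hq (fun w _ hwq => hall w hwq) ?_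
  rwa [Subgroup.relIndex_top_right, hx]

/-- The bad case is impossible. -/
theorem false_of_bad (hbn : Bad G n) (hbm : Bad G m) : False := by
  obtain ⟨x, p, hp, hxp, hx⟩ := H.exists_primary
  obtain ⟨y, q, hq, hyq, hy⟩ := H.symm.exists_primary
  have hpn := hbn p x hp hxp hx
  have hqm := hbm q y hq hyq hy
  have hpm := H.dvd_m_of_bad hbn hp hxp hx
  have hqn := H.symm.dvd_m_of_bad hbm hq hyq hy
  have hpq : p ≠ q := fun h => hpn (h ▸ hqn)
  have hxy := H.commute_of_bad hbn hbm hp hq hxp hyq hx hy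
  set D := cen x ⊓ cen y with hD
  have hDi : D.index = n * m := H.inf_index hx hy
  obtain ⟨w, hwD, hwq, hw⟩ := H.exists_nm_element hbn hbm hp hq hpq hxp hyq hx hy
  obtain ⟨f, hfD', hfp, hf⟩ := H.symm.exists_nm_element hbm hbn hq hp hpq.symm hyq hxp hy hx
  have hfD : f ∈ D := ⟨hfD'.2, hfD'.1⟩
  replace hf : (cen f).index = n * m := hf.trans (mul_comm m n)
  have hwx : cen w ≤ cen x :=
    H.le_of_nm hw (mem_cen_comm.mp hwD.1) (hwq.coprime' hq hp hpq.symm hxp)
  have hyE : y ∈ cen w := mem_cen_comm.mp hwD.2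
  have hxE : x ∈ cen w := mem_cen_comm.mp hwD.1
  have hpD : ∀ e ∈ cen w, PE p e → e ∈ D := by
    intro e he hep
    refine ⟨hwx he, ?_⟩
    rcases H.val e with e1 | e1 | e1 | e1
    · exact center_le_cen y (index_eq_one_iff.mp e1)
    · exact H.commute_of_bad hbn hbm hp hq hep hyq e1 hy
    · exact absurd hpm (hbm p e hp hep e1)
    · exact mem_cen_comm.mp
        (H.le_of_nm hw he (hwq.coprime' hq hp hpq.symm hep) hyE)
  obtain ⟨f', hf'w, hf'p, hf'⟩ : ∃ f' ∈ cen w, PE p f' ∧ (cen f').index = n * m := by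
    have h0 : ¬ p ∣ (cen w ⊓ D).relIndex (cen w) :=
      not_dvd_relIndex hp fun e he hep => ⟨he, hpD e he hep⟩
    have h1 := Subgroup.relIndex_mul_index (inf_le_left : cen w ⊓ D ≤ cen w)
    have h2 := Subgroup.relIndex_mul_index (inf_le_right : cen w ⊓ D ≤ D)
    rw [hw] at h1
    rw [hDi, ← h1] at h2
    rw [← mul_right_cancel₀ (Nat.mul_pos H.n_pos H.symm.n_pos).ne' h2] at h0
    obtain ⟨h, -, hh⟩ := exists_conj_of_relIndex hp h0 hfD hfp
    exact ⟨_, hh.1, hfp.conj h, by rw [index_cen_conj, hf]⟩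
  have hwf : cen f' = cen w :=
    (eq_of_le_of_index (H.le_of_nm hw hf'w (hwq.coprime' hq hp hpq.symm hf'p))
      (hw.trans hf'.symm)).symm
  have hab : ∀ e ∈ cen w, cen w ≤ cen e := by
    intro e he a ha
    rw [mem_cen_comm]
    refine mem_of_prime_power_parts fun z hz t k ht htk => mem_cen_comm.mp ?_
    have hzw : z ∈ cen w := Subgroup.zpowers_le.mpr he hz
    by_cases htq : t = q
    · refine H.le_of_nm hf' (hwf ▸ hzw) ?_ (hwf ▸ ha)
      exact hf'p.coprime' hp hq hpq ⟨k, htq ▸ htk⟩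
    · exact H.le_of_nm hw hzw (hwq.coprime' hq ht (Ne.symm htq) ⟨k, htk⟩) ha
  have hED : cen w = D := eq_of_le_of_index
    (fun a ha => Subgroup.mem_inf.mpr ⟨hab x hxE ha, hab y hyE ha⟩) (hw.trans hDi.symm)
  set W := cen x with hW
  have hwW : w ∈ W := hwD.1
  have hconjW : ∀ h ∈ W, h * x * h⁻¹ = x := fun h hh => by rw [mem_cen.mp hh]; group
  have hcover : ∀ g ∈ W, ∃ h ∈ W, h⁻¹ * g * h ∈ D := by
    intro g hg
    obtain ⟨a, b, hgab, ha, hb, hap, hbc⟩ := PPrimeAbelian.exists_split hp g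
    have haW : a ∈ W := Subgroup.zpowers_le.mpr hg ha
    have hbW : b ∈ W := Subgroup.zpowers_le.mpr hg hb
    have hgb : g ∈ cen b := by
      obtain ⟨i, rfl⟩ := Subgroup.mem_zpowers_iff.mp hb
      exact mem_cen.mpr ((Commute.refl g).zpow_right i).eq
    have hcop : (orderOf x).Coprime (orderOf b) := hxp.coprime hbc
    rcases H.relIndex_cases hx hbW hcop with ⟨hrel, -⟩ | ⟨hrel, hxb⟩
    · have hWb : W ≤ cen b := Subgroup.relIndex_eq_one.mp hrel
      have hbD : ∀ h ∈ W, h⁻¹ * b * h ∈ D := fun h hh => by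
        rw [show h⁻¹ * b * h = b by rw [mul_assoc, ← mem_cen.mp (hWb hh)]; group]
        rw [← hED]
        exact mem_cen_comm.mp (hWb hwW)
      rcases H.val a with e1 | e1 | e1 | e1
      · refine ⟨1, W.one_mem, ?_⟩
        have hd := hbD 1 W.one_mem
        rw [inv_one, one_mul, mul_one] at hd ⊢
        rw [hgab]
        exact D.mul_mem (Subgroup.mem_inf.mpr ⟨haW, center_le_cen y (index_eq_one_iff.mp e1)⟩) hd
      · refine ⟨1, W.one_mem, ?_⟩
        have hd := hbD 1 W.one_mem
        rw [inv_one, one_mul, mul_one] at hd ⊢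
        rw [hgab]
        exact D.mul_mem (Subgroup.mem_inf.mpr
          ⟨haW, H.commute_of_bad hbn hbm hp hq hap hyq e1 hy⟩) hd
      · exact absurd hpm (hbm p a hp hap e1)
      · have hqF : ∀ v ∈ cen a, PE q v → v ∈ cen a ⊓ W := by
          intro v hv hvq
          refine ⟨hv, ?_⟩
          rcases H.val v with e2 | e2 | e2 | e2
          · exact center_le_cen x (index_eq_one_iff.mp e2)
          · exact absurd hqn (hbn q v hq hvq e2)
          · exact mem_cen_comm.mp (H.commute_of_bad hbn hbm hp hq hxp hvq hx e2)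
          · have hxa : x ∈ cen a := mem_cen_comm.mp haW
            exact mem_cen_comm.mp (H.le_of_nm e1 hv (PE.coprime' hp hq hpq hap hvq) hxa)
        have h0 := not_dvd_relIndex hq hqF
        have h1 := Subgroup.relIndex_mul_index (inf_le_left : cen a ⊓ W ≤ cen a)
        have h2 := Subgroup.relIndex_mul_index (inf_le_right : cen a ⊓ W ≤ W)
        rw [e1] at h1
        rw [hx, ← h1, mul_comm n m, ← mul_assoc] at h2
        have h3 : ¬ q ∣ (cen a ⊓ W).relIndex W := by
          rw [mul_right_cancel₀ H.n_pos.ne' h2]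
          exact fun hd => (hq.dvd_mul.mp hd).elim h0 hqm
        obtain ⟨h, hh, hhw⟩ := exists_conj_of_relIndex hq h3 hwW hwq
        refine ⟨h, hh, ?_⟩
        rw [show h⁻¹ * g * h = (h⁻¹ * a * h) * (h⁻¹ * b * h) by rw [hgab]; group]
        refine D.mul_mem ?_ (hbD h hh)
        rw [← hED, mem_cen_comm, ← conj_mem_cen_iff]
        exact hhw.1
    · have hxbe := cen_mul_of_coprime (mem_cen.mp hbW).symm hcop
      obtain ⟨h, hh, hhw⟩ := exists_conj_of_relIndex (F := cen x ⊓ cen b) (W := W) hq (by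
        rw [Subgroup.inf_relIndex_left, hrel]
        exact hqm) hwW hwq
      refine ⟨h, hh, ?_⟩
      set b0 := h⁻¹ * b * h with hb0
      have hb0w : b0 ∈ cen w := mem_cen_comm.mp (conj_mem_cen_iff.mp hhw.2)
      have hxb0 : x * b0 ∈ cen w := (cen w).mul_mem hxE hb0w
      have hxconj : h⁻¹ * x * h⁻¹⁻¹ = x := hconjW _ (W.inv_mem hh)
      have hidx : (cen (x * b0)).index = n * m := by
        rw [← hxb, ← index_cen_conj h⁻¹ (x * b)]
        congr 2
        calc x * b0 = (h⁻¹ * x * h⁻¹⁻¹) * (h⁻¹ * b * h) := by rw [hxconj]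
          _ = h⁻¹ * (x * b) * h⁻¹⁻¹ := by group
      have hDeq : D = cen (x * b0) := hED ▸ eq_of_le_of_index (hab _ hxb0) (hw.trans hidx.symm)
      rw [hDeq]
      refine mem_cen.mpr (Commute.mul_right ?_ ?_)
      · exact mem_cen.mp (W.mul_mem (W.mul_mem (W.inv_mem hh) hg) hh)
      · have := mem_cen_conj' (a := h⁻¹) hgb
        show _ = _
        simpa [hb0] using mem_cen.mp this
  have htop : D.subgroupOf W = ⊤ := TwoClassSizes.eq_top_of_conj_cover fun g => by
    obtain ⟨h, hh, hd⟩ := hcover g g.2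
    exact ⟨⟨h, hh⟩, by simpa [Subgroup.mem_subgroupOf] using hd⟩
  have h1 := Subgroup.relIndex_mul_index (inf_le_left : D ≤ W)
  rw [show D.relIndex W = 1 from by rw [Subgroup.relIndex, htop, Subgroup.index_top], hDi, hx,
    one_mul] at h1
  exact H.hm.ne' ((Nat.mul_eq_left H.n_pos.ne').mp h1.symm)

end Cfg

end CfsgLib.ConjType
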