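import Cfsg.Agent.Lib.ConjType.Tools

/-!
Groups with class sizes `1`, `n`, `m` and `n * m` for coprime `n` and `m`: elementary facts.
-/

set_option autoImplicit false
set_option linter.style.haveILetI false
set_option linter.unusedSectionVars false

namespace CfsgLib.ConjType

open CfsgLib.CentMaxNormal (cen mem_cen mem_cen_comm self_mem_cen center_le_cen cen_le_cen_of_mem
  mem_zpowers_mul mem_of_prime_power_parts)

variable {G : Type*} [Group G]

/-- The class sizes of `G` are `1`, `n`, `m`, `n * m`, with `n` and `m` coprime. -/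
structure Cfg (G : Type*) [Group G] (n m : ℕ) : Prop where
  hn : 1 < n
  hm : 1 < m
  cop : n.Coprime m
  val : ∀ g : G, (cen g).index = 1 ∨ (cen g).index = n ∨ (cen g).index = m ∨
    (cen g).index = n * m
  exn : ∃ g : G, (cen g).index = n
  exm : ∃ g : G, (cen g).index = m
  exnm : ∃ g : G, (cen g).index = n * m

namespace Cfg

variable {n m : ℕ} (H : Cfg G n m)
include H

theorem symm : Cfg G m n where
  hn := H.hm
  hm := H.hn
  cop := H.cop.symm
  val g := by
    rcases H.val g with h | h | h | h
    · exact .inl h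
    · exact .inr (.inr (.inl h))
    · exact .inr (.inl h)
    · exact .inr (.inr (.inr (h.trans (mul_comm n m))))
  exn := H.exm
  exm := H.exn
  exnm := let ⟨g, hg⟩ := H.exnm; ⟨g, hg.trans (mul_comm n m)⟩

theorem n_pos : 0 < n := Nat.zero_lt_of_lt H.hn

theorem not_m_dvd_n : ¬ m ∣ n := fun h =>
  Nat.lt_irrefl 1 (Nat.Coprime.eq_one_of_dvd H.cop.symm h ▸ H.hm)

theorem not_n_dvd_m : ¬ n ∣ m := H.symm.not_m_dvd_n

theorem not_dvd_m_of_dvd_n {p : ℕ} (hp : p.Prime) (h : p ∣ n) : ¬ p ∣ m := fun h' =>
  hp.ne_one (Nat.eq_one_of_dvd_coprimes H.cop h h')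

theorem index_dvd_n {g : G} (h : (cen g).index ∣ n) : (cen g).index = 1 ∨ (cen g).index = n := by
  rcases H.val g with e | e | e | e
  · exact .inl e
  · exact .inr e
  · exact absurd (e ▸ h) H.not_m_dvd_n
  · exact absurd (dvd_trans (dvd_mul_left m n) (e ▸ h)) H.not_m_dvd_n

theorem index_mult_n {g : G} (h : n ∣ (cen g).index) :
    (cen g).index = n ∨ (cen g).index = n * m := by
  rcases H.val g with e | e | e | e
  · exact absurd (Nat.le_of_dvd one_pos (e ▸ h)) (not_le.mpr H.hn)
  · exact .inl e
  · exact absurd (e ▸ h) H.not_n_dvd_m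
  · exact .inr e

variable [Finite G]

omit H in
theorem index_eq_one_iff {g : G} : (cen g).index = 1 ↔ g ∈ Subgroup.center G := by
  rw [Subgroup.index_eq_one, TwoClassSizes.cen_eq_top_iff]

omit H in
theorem index_dvd_of_le {a b : G} (h : cen a ≤ cen b) : (cen b).index ∣ (cen a).index :=
  Subgroup.index_dvd_of_le h

theorem not_center {g : G} (h : (cen g).index = n) : g ∉ Subgroup.center G := fun hg =>
  absurd (h.symm.trans (index_eq_one_iff.mpr hg)) H.hn.ne'

omit H in
theorem eq_of_le_of_index {A B : Subgroup G} (hle : A ≤ B) (h : A.index = B.index) : A = B := by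
  refine Subgroup.eq_of_le_of_card_ge hle (le_of_eq ?_)
  have h1 := Subgroup.card_mul_index A
  rw [← Subgroup.card_mul_index B, h] at h1
  exact (mul_right_cancel₀ Subgroup.index_ne_zero_of_finite h1).symm

/-- Minimal centralizers: an element commuting with one of maximal class size and of coprime
order has a bigger centralizer. -/
theorem le_of_nm {a b : G} (ha : (cen a).index = n * m) (hb : b ∈ cen a)
    (hcop : (orderOf a).Coprime (orderOf b)) : cen a ≤ cen b := by
  have hc : Commute a b := (mem_cen.mp hb).symm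
  have hle : cen (a * b) ≤ cen a := (cen_mul_of_coprime hc hcop).le.trans inf_le_left
  have hd : n * m ∣ (cen (a * b)).index := ha ▸ index_dvd_of_le hle
  have he : (cen (a * b)).index = n * m := by
    rcases H.val (a * b) with e | e | e | e
    · exact absurd ((Nat.dvd_one.mp (e ▸ hd))) (fun h => H.hn.ne' (Nat.eq_one_of_mul_eq_one_right h))
    · exact absurd (dvd_trans (dvd_mul_left m n) (e ▸ hd)) H.not_m_dvd_n
    · exact absurd (dvd_trans (dvd_mul_right n m) (e ▸ hd)) H.not_n_dvd_m
    · exact e
  rw [← eq_of_le_of_index hle (he.trans ha.symm), cen_mul_of_coprime hc hcop]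
  exact inf_le_right

theorem inf_index {x y : G} (hx : (cen x).index = n) (hy : (cen y).index = m) :
    (cen x ⊓ cen y).index = n * m := by
  rw [(coprime_split (by rw [hx, hy]; exact H.cop)).1, hx, hy]

theorem split {x y : G} (hx : (cen x).index = n) (hy : (cen y).index = m) (g : G) :
    ∃ a ∈ cen x, ∃ b ∈ cen y, g = a * b :=
  (coprime_split (by rw [hx, hy]; exact H.cop)).2 g

/-- A pair of elements of the two class sizes commutes if and only if every such pair from the
same classes does. -/
theorem commute_conj {x y : G} (hx : (cen x).index = n) (hy : (cen y).index = m) {g : G}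
    (h : x ∈ cen y) : x ∈ cen (g * y * g⁻¹) := by
  obtain ⟨a, ha, b, hb, rfl⟩ := H.split hx hy g
  have e1 : a * b * y * (a * b)⁻¹ = a * y * a⁻¹ := by
    have : b * y * b⁻¹ = y := by rw [mem_cen.mp hb]; group
    calc a * b * y * (a * b)⁻¹ = a * (b * y * b⁻¹) * a⁻¹ := by group
      _ = _ := by rw [this]
  have e2 : a * x * a⁻¹ = x := by rw [mem_cen.mp ha]; group
  rw [e1, ← e2]
  exact mem_cen_conj' h

theorem commute_conj' {x y : G} (hx : (cen x).index = n) (hy : (cen y).index = m) {g : G}
    (h : g * x * g⁻¹ ∈ cen y) : x ∈ cen y := by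
  have h1 := mem_cen_conj' (a := g⁻¹) h
  have h2 : x ∈ cen (g⁻¹ * y * g) := by simpa [mul_assoc] using h1
  have h3 := H.commute_conj (g := g) hx
    (y := g⁻¹ * y * g) (by simpa using (index_cen_conj g⁻¹ y).trans hy) h2
  simpa [mul_assoc] using h3

/-- A `p`-element of index `n` commutes with all elements of index `m` unless `p` divides `m`. -/
theorem commute_of_not_dvd {x y : G} {p : ℕ} (hp : p.Prime) (hxp : PE p x)
    (hx : (cen x).index = n) (hy : (cen y).index = m) (h : ¬ p ∣ m) : x ∈ cen y := by
  obtain ⟨g, -, hg⟩ := exists_conj_of_relIndex (F := cen y) (W := ⊤) hp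
    (by rwa [Subgroup.relIndex_top_right, hy]) (Subgroup.mem_top x) hxp
  exact H.commute_conj' hx hy hg

theorem exists_primary : ∃ x : G, ∃ p : ℕ, p.Prime ∧ PE p x ∧ (cen x).index = n := by
  obtain ⟨g, hg⟩ := H.exn
  by_contra hcon
  refine H.not_center hg (mem_of_prime_power_parts fun y hy r k hr hyk => ?_)
  by_contra hy'
  rcases H.index_dvd_n (hg ▸ index_dvd_of_le (cen_le_cen_of_mem hy)) with e | e
  · exact hy' (index_eq_one_iff.mp e)
  · exact hcon ⟨y, r, hr, ⟨k, hyk⟩, e⟩

/-- The relative index, in the centralizer of an element of index `n`, of an element of coprime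
order. -/
theorem relIndex_cases {x g : G} (hx : (cen x).index = n) (hg : g ∈ cen x)
    (hcop : (orderOf x).Coprime (orderOf g)) :
    ((cen g).relIndex (cen x) = 1 ∧ (cen (x * g)).index = n) ∨
      ((cen g).relIndex (cen x) = m ∧ (cen (x * g)).index = n * m) := by
  have hc : Commute x g := (mem_cen.mp hg).symm
  have hxg : cen (x * g) = cen x ⊓ cen g := cen_mul_of_coprime hc hcop
  have h1 := Subgroup.relIndex_mul_index (inf_le_left : cen x ⊓ cen g ≤ cen x)
  rw [Subgroup.inf_relIndex_left, hx, ← hxg] at h1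
  have hn0 : n ≠ 0 := H.n_pos.ne'
  rcases H.index_mult_n (Dvd.intro_left _ h1) with e | e
  · refine .inl ⟨?_, e⟩
    rw [e] at h1
    exact (Nat.mul_eq_right hn0).mp h1
  · refine .inr ⟨?_, e⟩
    rw [e, mul_comm n m] at h1
    exact mul_right_cancel₀ hn0 h1

omit H in
/-- Moving a conjugation to the other side. -/
theorem conj_mem_cen_iff {g a b : G} : g * a * g⁻¹ ∈ cen b ↔ a ∈ cen (g⁻¹ * b * g) := by
  constructor
  · intro h
    simpa [mul_assoc] using mem_cen_conj' (a := g⁻¹) h
  · intro h
    simpa [mul_assoc] using mem_cen_conj' (a := g) h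

end Cfg

end CfsgLib.ConjType
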