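import Cfsg.Agent.Lib.ConjType.Basic
import Cfsg.Agent.Lib.ClassSize.NilpotentMultiset

/-!
A noncommuting pair of elements of class sizes `n` and `m` whose product has class size `n`
yields an abelian normal `q`-subgroup on which the first element acts without fixed points.
-/

set_option autoImplicit false
set_option linter.style.haveILetI false
set_option linter.unusedSectionVars false

namespace CfsgLib.ConjType

open CfsgLib.CentMaxNormal (cen mem_cen mem_cen_comm self_mem_cen center_le_cen cen_le_cen_of_mem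
  mem_zpowers_mul mem_of_prime_power_parts)

variable {G : Type*} [Group G] [Finite G]

theorem relIndex_dvd_index_normal {A M : Subgroup G} [M.Normal] :
    A.relIndex M ∣ A.index := by
  have hL : A.relIndex (A ⊔ M) = A.relIndex M := by
    have h1 := Subgroup.relIndex_mul_relIndex ⊥ A (A ⊔ M) bot_le le_sup_left
    have h2 := Subgroup.relIndex_mul_relIndex ⊥ M (A ⊔ M) bot_le le_sup_right
    have h3 := Subgroup.relIndex_mul_relIndex ⊥ (A ⊓ M) A bot_le inf_le_left
    have h4 := Subgroup.relIndex_mul_relIndex ⊥ (A ⊓ M) M bot_le inf_le_right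
    simp only [Subgroup.relIndex_bot_left, Subgroup.inf_relIndex_left,
      Subgroup.inf_relIndex_right] at h1 h2 h3 h4
    rw [Subgroup.relIndex_sup_right] at h2
    refine mul_left_cancel₀ (Nat.card_pos (α := A)).ne' ?_
    rw [h1, ← h2, ← h4, ← h3]
    ring
  exact hL ▸ Dvd.intro _ (Subgroup.relIndex_mul_index le_sup_left)

namespace Cfg

variable {n m : ℕ} (H : Cfg G n m)
include H

theorem product_index {x y : G} (hx : (cen x).index = n) (hy : (cen y).index = m)
    (hne : x ∉ cen y) : (cen (x * y)).index = n ∨ (cen (x * y)).index = m := by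
  rcases H.val (x * y) with e | e | e | e
  · exfalso
    have hc := Subgroup.mem_center_iff.mp (index_eq_one_iff.mp e) x
    exact hne (mem_cen.mpr (mul_left_cancel (a := x) (hc.trans (mul_assoc x y x))))
  · exact .inl e
  · exact .inr e
  · exfalso
    have hle : cen x ⊓ cen y ≤ cen (x * y) := fun g hg =>
      mem_cen.mpr (Commute.mul_right (mem_cen.mp hg.1 : Commute g x) (mem_cen.mp hg.2))
    have heq := eq_of_le_of_index hle ((H.inf_index hx hy).trans e.symm)
    have h1 : x * y ∈ cen x := (heq ▸ self_mem_cen (x * y) : x * y ∈ cen x ⊓ cen y).1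
    exact hne (mem_cen.mpr (mul_left_cancel (a := x) ((mul_assoc x y x).symm.trans
      (mem_cen.mp h1))).symm)

/-- The subgroups attached to a noncommuting pair. -/
theorem core {x y : G} {p q : ℕ} (hp : p.Prime) (hq : q.Prime) (hpq : p ≠ q) (hxp : PE p x)
    (hyq : PE q y) (hx : (cen x).index = n) (hy : (cen y).index = m) (hne : x ∉ cen y)
    (hxy : (cen (x * y)).index = n) :
    ∃ Y M : Subgroup G, Y.Normal ∧ M.Normal ∧ (∀ a ∈ Y, PE q a) ∧ M ≤ Y ∧ y ∈ Y ∧
      (∀ μ ∈ M, μ ∈ cen x → μ = 1) ∧ (∀ μ ∈ M, ∃ ν ∈ M, ν * x * ν⁻¹ = x * μ) ∧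
      ∃ u ∈ M, u ≠ 1 ∧ (cen u).index = m := by
  classical
  have hmove : ∀ g1 g2 g3 : G, ∃ g4 : G,
      g1 * x * g1⁻¹ * (g2 * y * g2⁻¹) = g4 * x * g4⁻¹ * (g3 * y * g3⁻¹) := by
    intro g1 g2 g3
    obtain ⟨a, ha, b, hb, hab⟩ := H.split hx hy (g1⁻¹ * g2)
    have hax : a * x * a⁻¹ = x := by rw [mem_cen.mp ha]; group
    have hby : b * y * b⁻¹ = y := by rw [mem_cen.mp hb]; group
    have hg2 : g2 = g1 * a * b := by rw [mul_assoc, ← hab]; group
    obtain ⟨u, hu, v, hv, huv⟩ := H.symm.split hy hxy (g3⁻¹ * (g1 * a))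
    have huy : u * y * u⁻¹ = y := by rw [mem_cen.mp hu]; group
    have hvxy : v * (x * y) * v⁻¹ = x * y := by rw [mem_cen.mp hv]; group
    have hga : g1 * a = g3 * u * v := by rw [mul_assoc g3, ← huv]; group
    refine ⟨g3 * u, ?_⟩
    calc g1 * x * g1⁻¹ * (g2 * y * g2⁻¹)
        = g1 * (a * x * a⁻¹) * g1⁻¹ * (g1 * a * (b * y * b⁻¹) * (g1 * a)⁻¹) := by
          rw [hax, hg2]; group
      _ = (g1 * a) * (x * y) * (g1 * a)⁻¹ := by rw [hby]; group
      _ = g3 * u * (v * (x * y) * v⁻¹) * (g3 * u)⁻¹ := by rw [hga]; group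
      _ = (g3 * u) * x * (g3 * u)⁻¹ * (g3 * (u * y * u⁻¹) * g3⁻¹) := by rw [hvxy]; group
      _ = _ := by rw [huy]
  set Xs : Set G := {z | ∃ g : G, g * x * g⁻¹ = z} with hXs
  let M0 : Subgroup G :=
    { carrier := {μ | ∀ z ∈ Xs, z * μ ∈ Xs}
      one_mem' := fun z hz => by rwa [mul_one]
      mul_mem' := fun {a b} ha hb z hz => by
        rw [← mul_assoc]
        exact hb _ (ha z hz)
      inv_mem' := fun {a} ha => by
        have hpow : ∀ k : ℕ, ∀ z ∈ Xs, z * a ^ k ∈ Xs := by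
          intro k
          induction k with
          | zero => intro z hz; rwa [pow_zero, mul_one]
          | succ k ih => intro z hz; rw [pow_succ, ← mul_assoc]; exact ha _ (ih z hz)
        have : a⁻¹ = a ^ (orderOf a - 1) := by
          refine inv_eq_of_mul_eq_one_right ?_
          rw [← pow_succ', Nat.sub_add_cancel (orderOf_pos a), pow_orderOf_eq_one]
        intro z hz
        rw [this]
        exact hpow _ z hz }
  haveI hM0n : M0.Normal := ⟨fun μ hμ g z hz => by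
    obtain ⟨a, rfl⟩ := hz
    obtain ⟨b, hb⟩ := hμ _ ⟨g⁻¹ * a, rfl⟩
    refine ⟨g * b, ?_⟩
    calc g * b * x * (g * b)⁻¹ = g * (b * x * b⁻¹) * g⁻¹ := by group
      _ = g * (g⁻¹ * a * x * (g⁻¹ * a)⁻¹ * μ) * g⁻¹ := by rw [hb]
      _ = _ := by group⟩
  have hgen : ∀ g : G, g * y * g⁻¹ * y⁻¹ ∈ M0 := by
    rintro g z ⟨a, rfl⟩
    obtain ⟨b, hb⟩ := hmove a g 1
    refine ⟨b, ?_⟩
    calc b * x * b⁻¹ = (b * x * b⁻¹ * (1 * y * 1⁻¹)) * y⁻¹ := by group
      _ = (a * x * a⁻¹ * (g * y * g⁻¹)) * y⁻¹ := by rw [hb]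
      _ = _ := by group
  have hcardX : Nat.card Xs = n := by
    have he : Xs = (ConjClasses.mk x).carrier := by
      ext z
      rw [ConjClasses.mem_carrier_iff_mk_eq, ConjClasses.mk_eq_mk_iff_isConj, isConj_comm,
        isConj_iff]
      rfl
    rw [he, ClassSize.card_carrier]
    exact hx
  have hord : ∀ μ ∈ M0, orderOf μ ∣ n := by
    intro μ hμ
    have hle : Subgroup.zpowers μ ≤ M0 := Subgroup.zpowers_le.mpr hμ
    have hpre : ((↑) : G → G ⧸ Subgroup.zpowers μ) ⁻¹' (((↑) : G → G ⧸ Subgroup.zpowers μ) '' Xs)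
        = Xs := by
      refine Set.Subset.antisymm ?_ (Set.subset_preimage_image _ _)
      rintro w ⟨z, hz, hzw⟩
      have := hle (QuotientGroup.eq.mp hzw) z hz
      rwa [mul_inv_cancel_left] at this
    have hc := Nat.card_congr (QuotientGroup.preimageMkEquivSubgroupProdSet (Subgroup.zpowers μ)
      (((↑) : G → G ⧸ Subgroup.zpowers μ) '' Xs))
    rw [Nat.card_prod, Nat.card_zpowers] at hc
    rw [← hcardX]
    exact Dvd.intro _ (hc.symm.trans (by rw [hpre]))
  have hM0y : M0 ≤ cen y := by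
    have hco : (Nat.card M0).Coprime m := by
      refine Nat.coprime_of_dvd fun t ht h1 h2 => ?_
      haveI := Fact.mk ht
      obtain ⟨μ, hμ⟩ := exists_prime_orderOf_dvd_card' (G := M0) t h1
      refine ht.ne_one (Nat.eq_one_of_dvd_coprimes H.cop ?_ h2)
      have := hord μ μ.2
      rwa [Subgroup.orderOf_coe, hμ] at this
    rw [← Subgroup.relIndex_eq_one, ← Nat.dvd_one]
    refine (Nat.dvd_gcd (?_ : (cen y).relIndex M0 ∣ Nat.card M0) ?_).trans (dvd_of_eq hco)
    · exact Subgroup.index_dvd_card _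
    · exact hy ▸ relIndex_dvd_index_normal
  have hyc : ∀ g : G, g * y * g⁻¹ ∈ cen y := fun g => by
    have h1 := (cen y).mul_mem (hM0y (hgen g)) (self_mem_cen y)
    simpa [mul_assoc] using h1
  set Ys : Set G := {z | ∃ g : G, g * y * g⁻¹ = z} with hYs
  set Y := Subgroup.closure Ys with hY
  have hyY : ∀ g : G, g * y * g⁻¹ ∈ Y := fun g => Subgroup.subset_closure ⟨g, rfl⟩
  have hy0 : y ∈ Y := by simpa using hyY 1
  haveI hYn : Y.Normal := ⟨fun z hz g => by
    induction hz using Subgroup.closure_induction with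
    | mem w hw =>
      obtain ⟨a, rfl⟩ := hw
      have := hyY (g * a)
      simpa [mul_assoc] using this
    | one => simp
    | mul a b _ _ ha hb => simpa [mul_assoc] using Y.mul_mem ha hb
    | inv a _ ha => simpa [mul_assoc] using Y.inv_mem ha⟩
  have hYcomm : ∀ a ∈ Y, ∀ b ∈ Y, a * b = b * a := by
    have h1 : ∀ g : G, Y ≤ cen (g * y * g⁻¹) := by
      intro g
      rw [hY, Subgroup.closure_le]
      rintro _ ⟨a, rfl⟩
      have := mem_cen_conj' (a := g) (hyc (g⁻¹ * a))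
      simpa [mul_assoc] using this
    intro a ha b hb
    have h2 : Y ≤ cen a := by
      rw [hY, Subgroup.closure_le]
      rintro _ ⟨g, rfl⟩
      exact mem_cen_comm.mp (h1 g ha)
    exact (mem_cen.mp (h2 hb)).symm
  have hYq : ∀ a ∈ Y, PE q a := by
    obtain ⟨k, hk⟩ := hyq
    intro a ha
    suffices a ^ q ^ k = 1 by
      obtain ⟨i, -, hi⟩ := (Nat.dvd_prime_pow hq).mp (orderOf_dvd_of_pow_eq_one this)
      exact ⟨i, hi⟩
    induction ha using Subgroup.closure_induction with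
    | mem w hw =>
      obtain ⟨g, rfl⟩ := hw
      rw [conj_pow, ← hk, pow_orderOf_eq_one, mul_one, mul_inv_cancel]
    | one => exact one_pow _
    | mul a b ha hb h1 h2 => rw [Commute.mul_pow (hYcomm a ha b hb), h1, h2, mul_one]
    | inv a _ h1 => rw [inv_pow, h1, inv_one]
  set M := M0 ⊓ Y with hM
  haveI hMn : M.Normal := ⟨fun z hz g => ⟨hM0n.conj_mem z hz.1 g, hYn.conj_mem z hz.2 g⟩⟩
  have hfree : ∀ μ ∈ M, μ ∈ cen x → μ = 1 := by
    intro μ hμ hμx
    obtain ⟨g, hg⟩ := hμ.1 x ⟨1, by group⟩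
    have ho : orderOf (x * μ) = orderOf x := by
      rw [← hg]
      exact orderOf_injective (MulAut.conj g).toMonoidHom (MulAut.conj g).injective x
    have hc : Commute x μ := (mem_cen.mp hμx).symm
    have hcop : (orderOf x).Coprime (orderOf μ) := hxp.coprime' hp hq hpq (hYq μ hμ.2)
    rw [hc.orderOf_mul_eq_mul_orderOf_of_coprime hcop] at ho
    exact orderOf_eq_one_iff.mp ((Nat.mul_eq_left (orderOf_pos x).ne').mp ho)
  have hφ : ∀ μ ∈ M, x⁻¹ * μ * x * μ⁻¹ ∈ M := fun μ hμ =>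
    M.mul_mem (by simpa using hMn.conj_mem μ hμ x⁻¹) (M.inv_mem hμ)
  have hsurj : ∀ μ ∈ M, ∃ ν ∈ M, x⁻¹ * ν * x * ν⁻¹ = μ := by
    let φ : M → M := fun ν => ⟨_, hφ ν ν.2⟩
    have hinj : Function.Injective φ := by
      intro a b hab
      have h1 : x⁻¹ * (a : G) * x * (a : G)⁻¹ = x⁻¹ * b * x * (b : G)⁻¹ := congrArg Subtype.val hab
      have hba : (b : G)⁻¹ * a = a * (b : G)⁻¹ :=
        hYcomm _ (Y.inv_mem b.2.2) _ a.2.2
      have h2 : (b : G)⁻¹ * a ∈ cen x := by
        rw [mem_cen]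
        calc (b : G)⁻¹ * a * x
            = (b : G)⁻¹ * x * (x⁻¹ * (a : G) * x * (a : G)⁻¹) * a := by group
          _ = x * (b : G)⁻¹ * a := by rw [h1]; group
          _ = _ := by group
      exact Subtype.ext (inv_mul_eq_one.mp (hfree _ (M.mul_mem (M.inv_mem b.2) a.2) h2)).symm
    intro μ hμ
    obtain ⟨ν, hν⟩ := (Finite.injective_iff_surjective.mp hinj) ⟨μ, hμ⟩
    exact ⟨ν, ν.2, congrArg Subtype.val hν⟩
  have hconj : ∀ μ ∈ M, ∃ ν ∈ M, ν * x * ν⁻¹ = x * μ := by
    intro μ hμ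
    obtain ⟨ν, hν, h⟩ := hsurj μ hμ
    exact ⟨ν, hν, by rw [← h]; group⟩
  obtain ⟨μ, hμ, hμe⟩ := hsurj (x⁻¹ * y * x * y⁻¹)
    ⟨by simpa using hgen x⁻¹, Y.mul_mem (by simpa using hyY x⁻¹) (Y.inv_mem hy0)⟩
  set c := y * μ⁻¹ with hc
  have hcY : c ∈ Y := Y.mul_mem hy0 (Y.inv_mem hμ.2)
  have hcx : c ∈ cen x := by
    rw [mem_cen]
    have e1 : x⁻¹ * y * x = x⁻¹ * μ * x * μ⁻¹ * y := by rw [hμe]; group
    have e2 : μ⁻¹ * y = y * μ⁻¹ := hYcomm _ (Y.inv_mem hμ.2) _ hy0
    calc c * x = x * ((x⁻¹ * y * x) * (x⁻¹ * μ * x)⁻¹) := by rw [hc]; group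
      _ = x * ((x⁻¹ * μ * x) * (μ⁻¹ * y) * (x⁻¹ * μ * x)⁻¹) := by rw [e1]; group
      _ = x * ((x⁻¹ * μ * x) * c * (x⁻¹ * μ * x)⁻¹) := by rw [e2]
      _ = x * c := by
        rw [hYcomm _ (by simpa using hYn.conj_mem μ hμ.2 x⁻¹) _ hcY]; group
  have hcq : (cen c).index = 1 := by
    obtain ⟨ν, hν, hνe⟩ := hconj μ hμ
    have hνc : ν * c * ν⁻¹ = c := by rw [hYcomm _ hν.2 _ hcY]; group
    have hyμc : y = μ * c := by rw [hc, hYcomm _ hμ.2 _ hcY, inv_mul_cancel_right]
    have hconjxy : ν * (x * c) * ν⁻¹ = x * y := by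
      calc ν * (x * c) * ν⁻¹ = (ν * x * ν⁻¹) * (ν * c * ν⁻¹) := by group
        _ = x * y := by rw [hνe, hνc, hyμc, mul_assoc]
    have hxc : (cen (x * c)).index = n := by rw [← index_cen_conj ν, hconjxy]; exact hxy
    have hcop : (orderOf x).Coprime (orderOf c) := hxp.coprime' hp hq hpq (hYq c hcY)
    have hcen := cen_mul_of_coprime (mem_cen.mp hcx).symm hcop
    have heq := eq_of_le_of_index (A := cen (x * c)) (B := cen x) (hcen ▸ inf_le_left)
      (hxc.trans hx.symm)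
    have hle : cen x ≤ cen c := heq ▸ (hcen ▸ inf_le_right)
    rcases H.index_dvd_n (hx ▸ index_dvd_of_le hle) with e | e
    · exact e
    · exfalso
      exact hne (mem_cen_comm.mp ((eq_of_le_of_index hle (hx.trans e.symm)).symm ▸
        (mem_cen.mpr (hYcomm y hy0 c hcY) : y ∈ cen c)))
  have hμy : cen μ = cen y := by
    rw [show y = c * μ by rw [hc, inv_mul_cancel_right],
      TwoClassSizes.cen_mul_center (index_eq_one_iff.mp hcq)]
  refine ⟨Y, M, hYn, hMn, hYq, inf_le_right, hy0, hfree, hconj, μ, hμ, ?_, by rw [hμy, hy]⟩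
  intro h1
  rw [h1] at hμy
  exact hne (hμy ▸ mem_cen.mpr (by simp))

end Cfg

end CfsgLib.ConjType
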