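import Cfsg.Agent.Lib.ConjType.Basic

/-!
The good case: an element of `r`-power order and class size `n`, with `r` dividing `n`, forces
`m` to be a prime power, and such elements for both `n` and `m` force nilpotency.
-/

set_option autoImplicit false
set_option linter.style.haveILetI false
set_option linter.unusedSectionVars false

namespace CfsgLib.ConjType

open CfsgLib.CentMaxNormal (cen mem_cen mem_cen_comm self_mem_cen center_le_cen cen_le_cen_of_mem
  mem_zpowers_mul mem_of_prime_power_parts)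

/-- A group in which the elements of order prime to `r` have class size `1` or `m`, with `m`
prime to `r` and not always `1`: then `m` is a power of a prime `s` and all elements of other
prime orders commute with the `s`-elements. -/
theorem two_sizes_structure {H : Type*} [Group H] [Finite H] {r m : ℕ} [Fact r.Prime] (hm : 1 < m)
    (hrm : ¬ r ∣ m) (h : ∀ g : H, (orderOf g).Coprime r → (cen g).index = 1 ∨ (cen g).index = m)
    (hex : ∃ g : H, (orderOf g).Coprime r ∧ (cen g).index = m) :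
    ∃ s : ℕ, s.Prime ∧ (∃ b, m = s ^ b) ∧
      (∀ (t : ℕ) (g : H), t.Prime → t ≠ r → t ≠ s → PE t g → g ∈ Subgroup.center H) ∧
      (∀ a b : H, PE r a → (orderOf b).Coprime r → a * b = b * a) ∧
      ∀ S : Sylow s H, (S : Subgroup H).Normal ∧
        ∀ a ∈ (S : Subgroup H), ∀ b : H, (orderOf b).Coprime s → a * b = b * a := by
  have hr : r.Prime := Fact.out
  have hsep : ∀ g : H, (orderOf g).Coprime r → ¬ r ∣ (cen g).index := fun g hg hd => by
    rcases h g hg with e | e
    · exact hr.not_dvd_one (e ▸ hd)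
    · exact hrm (e ▸ hd)
  obtain ⟨R⟩ := (inferInstance : Nonempty (Sylow r H))
  obtain ⟨hRn, hRc⟩ := separation hsep R
  have hcomm : ∀ a b : H, PE r a → (orderOf b).Coprime r → a * b = b * a :=
    fun a b ⟨k, hk⟩ hb => hRc a (TwoClassSizes.mem_normal_of_orderOf R le_rfl hk) b hb
  haveI := hRn
  obtain ⟨C, hC⟩ := Subgroup.exists_right_complement'_of_coprime R.card_coprime_index
  have hsup : (R : Subgroup H) ⊔ C = ⊤ := hC.sup_eq_top
  have hCcop : ∀ c ∈ C, (orderOf c).Coprime r := fun c hc => by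
    refine Nat.Coprime.coprime_dvd_left
      ((Subgroup.orderOf_dvd_natCard C hc).trans (dvd_of_eq ?_))
      (hr.coprime_iff_not_dvd.mpr R.not_dvd_index).symm
    exact hC.symm.index_eq_card.symm
  have hRcen : ∀ c ∈ C, (R : Subgroup H) ≤ cen c := fun c hc u hu =>
    mem_cen.mpr (hRc u hu c (hCcop c hc))
  haveI hCn : C.Normal := by
    refine Subgroup.normalizer_eq_top_iff.mp (top_unique (hsup ▸ sup_le ?_ Subgroup.le_normalizer))
    intro u hu
    rw [Subgroup.mem_normalizer_iff]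
    intro c
    constructor
    · intro hc
      rw [mem_cen.mp (hRcen c hc hu), mul_inv_cancel_right]
      exact hc
    · intro hc
      have h1 := mem_cen.mp (hRcen _ hc hu)
      have : u * c * u⁻¹ = c := mul_left_cancel (a := u) (by rw [h1]; group)
      rwa [this] at hc
  have hall : ∀ g : H, (orderOf g).Coprime r → g ∈ C := by
    intro g hg
    rw [← QuotientGroup.eq_one_iff (N := C), ← orderOf_eq_one_iff, ← Nat.dvd_one]
    refine (Nat.dvd_gcd (orderOf_map_dvd (QuotientGroup.mk' C) g)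
      (orderOf_dvd_natCard _)).trans (dvd_of_eq ?_)
    rw [← Subgroup.index_eq_card, hC.index_eq_card]
    obtain ⟨k, hk⟩ := R.isPGroup'.exists_card_eq
    rw [hk]
    exact hg.pow_right k
  have hidx : ∀ c : C, (cen c).index = (cen (c : H)).index := by
    intro c
    rw [cen_subtype_index]
    refine mul_right_cancel₀ (b := Nat.card ↥(cen (c : H) ⊓ C)) Nat.card_pos.ne' ?_
    have h1 := Subgroup.card_mul_index (cen (c : H))
    have hL : cen (c : H) ⊔ C = ⊤ := top_unique (hsup ▸ sup_le_sup_right (hRcen c c.2) C)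
    have h2 := Subgroup.relIndex_mul_relIndex ⊥ (cen (c : H) ⊓ C) C bot_le inf_le_right
    rw [Subgroup.relIndex_bot_left, Subgroup.relIndex_bot_left, Subgroup.inf_relIndex_right] at h2
    have h3 := Subgroup.relIndex_mul_relIndex ⊥ (cen (c : H) ⊓ C) (cen (c : H)) bot_le inf_le_left
    rw [Subgroup.relIndex_bot_left, Subgroup.relIndex_bot_left, Subgroup.inf_relIndex_left] at h3
    have h4 : C.relIndex (cen (c : H)) = C.index := by
      rw [← Subgroup.relIndex_sup_right, hL, Subgroup.relIndex_top_right]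
    have h5 := Subgroup.card_mul_index C
    rw [h4] at h3
    rw [← h3] at h1
    rw [mul_comm, h2]
    have hi : C.index ≠ 0 := Subgroup.index_ne_zero_of_finite
    refine mul_right_cancel₀ hi ?_
    rw [h5, ← h1]
    ring
  have hcentral : ∀ c : C, c ∈ Subgroup.center C ↔ (c : H) ∈ Subgroup.center H := by
    intro c
    rw [← Cfg.index_eq_one_iff, ← Cfg.index_eq_one_iff, hidx]
  have hE : TwoClassSizes.Equi (⊤ : Subgroup C) m := fun c _ hc => by
    rw [hidx]
    rcases h c (hCcop c c.2) with e | e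
    · exact absurd ((hcentral c).mpr (Cfg.index_eq_one_iff.mp e)) hc
    · exact e
  obtain ⟨g, hg, hgm⟩ := hex
  have hgc : (⟨g, hall g hg⟩ : C) ∉ Subgroup.center C := fun hh => by
    have := Cfg.index_eq_one_iff.mpr ((hcentral _).mp hh)
    rw [hgm] at this
    exact hm.ne' this
  obtain ⟨s, hs, hsc⟩ := TwoClassSizes.exists_prime_central hm hE ⟨_, hgc⟩
  have hcen : ∀ (t : ℕ) (e : H), t.Prime → t ≠ r → t ≠ s → PE t e → e ∈ Subgroup.center H := by
    intro t e ht htr hts hte
    obtain ⟨k, hk⟩ := hte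
    have heC : e ∈ C := hall e (hk ▸ ((Nat.coprime_primes ht hr).mpr htr).pow_left k)
    exact (hcentral ⟨e, heC⟩).mp (hsc ⟨e, heC⟩ t k ht hts (by rw [Subgroup.orderOf_mk, hk]))
  refine ⟨s, hs, ?_, hcen, hcomm, fun S => ?_⟩
  · refine ⟨_, Nat.eq_prime_pow_of_unique_prime_dvd (by omega) fun {t} ht htm => ?_⟩
    by_contra hts
    have htr : t ≠ r := fun e => hrm (e ▸ htm)
    refine not_dvd_relIndex (F := cen g) (C := ⊤) ht (fun e _ he => ?_) ?_
    · exact center_le_cen g (hcen t e ht htr hts he)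
    · rwa [Subgroup.relIndex_top_right, hgm]
  · haveI := Fact.mk hs
    refine separation (fun b hb => ?_) S
    rw [← Subgroup.relIndex_top_right]
    refine not_dvd_relIndex hs fun e _ he => ?_
    rw [mem_cen_comm]
    refine mem_of_prime_power_parts fun y hy t k ht hyk => ?_
    rw [mem_cen]
    by_cases htr : t = r
    · subst htr
      by_cases hst : t = s
      · subst hst
        have h1 : t ∣ orderOf b ∨ k = 0 := by
          rcases Nat.eq_zero_or_pos k with h0 | h0
          · exact .inr h0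
          · exact .inl ((dvd_pow_self t h0.ne').trans (hyk ▸ orderOf_dvd_of_mem_zpowers hy))
        rcases h1 with h1 | h1
        · exact absurd (Nat.eq_one_of_dvd_coprimes hb h1 dvd_rfl) hs.ne_one
        · rw [h1, pow_zero, orderOf_eq_one_iff] at hyk
          rw [hyk, one_mul, mul_one]
      · exact hcomm y e ⟨k, hyk⟩ (he.coprime_prime hs hr (Ne.symm hst))
    · by_cases hts : t = s
      · subst hts
        rcases Nat.eq_zero_or_pos k with h0 | h0
        · rw [h0, pow_zero, orderOf_eq_one_iff] at hyk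
          rw [hyk, one_mul, mul_one]
        · exact absurd (Nat.eq_one_of_dvd_coprimes hb
            ((dvd_pow_self t h0.ne').trans (hyk ▸ orderOf_dvd_of_mem_zpowers hy)) dvd_rfl)
            ht.ne_one
      · exact (Subgroup.mem_center_iff.mp (hcen t y ht htr hts ⟨k, hyk⟩) e).symm

namespace Cfg

variable {G : Type*} [Group G] [Finite G] {n m : ℕ} (H : Cfg G n m)
include H

/-- The structure of the centralizer of a good element. -/
theorem good_structure {x : G} {r : ℕ} (hr : r.Prime) (hxr : PE r x) (hx : (cen x).index = n)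
    (hrn : r ∣ n) :
    ∃ s : ℕ, s.Prime ∧ (∃ b, m = s ^ b) ∧
      (∀ (y : G) (t : ℕ), t.Prime → PE t y → (cen y).index = m → t = s ∧ y ∈ cen x) ∧
      (∀ a ∈ cen x, ∀ b ∈ cen x, PE r a → PE s b → a * b = b * a) ∧
      ∃ S : Subgroup G, S ≤ cen x ∧ IsPGroup s S ∧ ∀ e ∈ cen x, PE s e → e ∈ S := by
  haveI := Fact.mk hr
  have hrm : ¬ r ∣ m := H.not_dvd_m_of_dvd_n hr hrn
  set W := cen x with hW
  have hcases : ∀ g : W, (orderOf g).Coprime r → (cen g).index = 1 ∨ (cen g).index = m := by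
    intro g hg
    rw [cen_subtype_index]
    rcases H.relIndex_cases hx g.2 (hxr.coprime (by rw [Subgroup.orderOf_coe]; exact hg)) with
      ⟨e, -⟩ | ⟨e, -⟩
    · exact .inl e
    · exact .inr e
  have hmem : ∀ (y : G) (t : ℕ), t.Prime → PE t y → (cen y).index = m → y ∈ W := by
    intro y t _ _ hy
    exact mem_cen_comm.mp (H.commute_of_not_dvd hr hxr hx hy hrm)
  obtain ⟨R⟩ := (inferInstance : Nonempty (Sylow r W))
  have hsep : ∀ g : W, (orderOf g).Coprime r → ¬ r ∣ (cen g).index := fun g hg hd => by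
    rcases hcases g hg with e | e
    · exact hr.not_dvd_one (e ▸ hd)
    · exact hrm (e ▸ hd)
  obtain ⟨hRn, hRc⟩ := separation hsep R
  have hne : ∀ (y : G) (t : ℕ), t.Prime → PE t y → (cen y).index = m → t ≠ r := by
    rintro y t ht hty hy rfl
    obtain ⟨k, hk⟩ := hty
    have hyW := hmem y t ht ⟨k, hk⟩ hy
    have hyR : (⟨y, hyW⟩ : W) ∈ (R : Subgroup W) := by
      haveI := hRn
      exact TwoClassSizes.mem_normal_of_orderOf R le_rfl (by rw [Subgroup.orderOf_mk, hk])
    obtain ⟨q, hq, hqm⟩ := Nat.exists_prime_and_dvd H.hm.ne'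
    refine not_dvd_relIndex (F := cen y) (C := W) hq (fun e heW heq => ?_) ?_
    · exact mem_cen.mpr (congrArg Subtype.val (hRc _ hyR ⟨e, heW⟩ (by
        rw [Subgroup.orderOf_mk]
        exact heq.coprime_prime hq ht (fun h => hrm (h ▸ hqm))))).symm
    · have h1 := Subgroup.relIndex_mul_index (inf_le_left : W ⊓ cen y ≤ W)
      rw [Subgroup.inf_relIndex_left, H.inf_index hx hy, hx, mul_comm n m] at h1
      rw [mul_right_cancel₀ H.n_pos.ne' h1]
      exact hqm
  obtain ⟨y, t, ht, hty, hy⟩ := H.symm.exists_primary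
  have hyW := hmem y t ht hty hy
  obtain ⟨s, hs, hsm, hscen, hscomm, hsS⟩ := two_sizes_structure H.hm hrm hcases
    ⟨⟨y, hyW⟩, by rw [Subgroup.orderOf_mk]; exact hty.coprime_prime ht hr (hne y t ht hty hy), by
      rw [cen_subtype_index]
      rcases H.relIndex_cases hx hyW (hxr.coprime' hr ht (hne y t ht hty hy).symm hty) with
        ⟨-, e⟩ | ⟨e, -⟩
      · exfalso
        have h1 : (cen x ⊓ cen y).index = n := by
          rw [← cen_mul_of_coprime (mem_cen.mp hyW).symm
            (hxr.coprime' hr ht (hne y t ht hty hy).symm hty)]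
          exact e
        rw [H.inf_index hx hy] at h1
        exact H.hm.ne' ((Nat.mul_eq_left H.n_pos.ne').mp h1)
      · exact e⟩
  refine ⟨s, hs, hsm, fun y' t' ht' hty' hy' => ⟨?_, hmem y' t' ht' hty' hy'⟩,
    fun a ha b hb har hbs => ?_, ?_⟩
  · by_contra hts
    have hyW' := hmem y' t' ht' hty' hy'
    have hc := hscen t' ⟨y', hyW'⟩ ht' (hne y' t' ht' hty' hy') hts
      (by obtain ⟨k, hk⟩ := hty'; exact ⟨k, by rw [Subgroup.orderOf_mk, hk]⟩)
    have hle : cen x ≤ cen y' := fun u hu =>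
      mem_cen.mpr (congrArg Subtype.val (Subgroup.mem_center_iff.mp hc ⟨u, hu⟩))
    have h1 := index_dvd_of_le hle
    rw [hx, hy'] at h1
    exact H.not_m_dvd_n h1
  · obtain ⟨b0, hb0⟩ := hsm
    have hsr : s ≠ r := fun h => by
      rcases Nat.eq_zero_or_pos b0 with h0 | h0
      · exact H.hm.ne' (by rw [hb0, h0, pow_zero])
      · exact hrm (hb0 ▸ h ▸ dvd_pow_self s h0.ne')
    obtain ⟨i, hi⟩ := har
    obtain ⟨j, hj⟩ := hbs
    exact congrArg Subtype.val (hscomm ⟨a, ha⟩ ⟨b, hb⟩ ⟨i, by rw [Subgroup.orderOf_mk, hi]⟩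
      (by rw [Subgroup.orderOf_mk]; exact (PE.coprime_prime hs hr hsr ⟨j, hj⟩)))
  · haveI := Fact.mk hs
    obtain ⟨S⟩ := (inferInstance : Nonempty (Sylow s W))
    obtain ⟨hSn, -⟩ := hsS S
    refine ⟨(S : Subgroup W).map W.subtype, Subgroup.map_subtype_le _, S.2.map _,
      fun e he hes => ?_⟩
    obtain ⟨k, hk⟩ := hes
    haveI := hSn
    exact ⟨⟨e, he⟩, TwoClassSizes.mem_normal_of_orderOf S le_rfl
      (by rw [Subgroup.orderOf_mk, hk]), rfl⟩

/-- In the good case all elements of `r`-power order lie in one `r`-group. -/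
theorem exists_pgroup_all {x y : G} {r s : ℕ} (hr : r.Prime) (hs : s.Prime) (hrs : r ≠ s)
    (hrn : r ∣ n) (hsm : s ∣ m) (hxr : PE r x) (hys : PE s y) (hx : (cen x).index = n)
    (hy : (cen y).index = m) : ∃ R : Subgroup G, IsPGroup r R ∧ ∀ e, PE r e → e ∈ R := by
  haveI := Fact.mk hr
  haveI := Fact.mk hs
  obtain ⟨s', -, -, hs'y, -, S, hSW, hSp, hSall⟩ := H.good_structure hr hxr hx hrn
  obtain ⟨r', -, -, hr'x, hcom, R, hRU, hRp, hRall⟩ := H.symm.good_structure hs hys hy hsm
  obtain ⟨rfl, hyx⟩ := hs'y y s hs hys hy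
  obtain ⟨rfl, hxy⟩ := hr'x x r hr hxr hx
  have hSconj : ∀ g : G, g * y * g⁻¹ ∈ S := by
    intro g
    obtain ⟨a, ha, b, hb, rfl⟩ := H.split hx hy g
    have e1 : a * b * y * (a * b)⁻¹ = a * y * a⁻¹ := by
      have : b * y * b⁻¹ = y := by rw [mem_cen.mp hb]; group
      calc a * b * y * (a * b)⁻¹ = a * (b * y * b⁻¹) * a⁻¹ := by group
        _ = _ := by rw [this]
    rw [e1]
    exact hSall _ ((cen x).mul_mem ((cen x).mul_mem ha hyx) ((cen x).inv_mem ha)) (hys.conj a)
  set B := Subgroup.normalClosure ({y} : Set G) with hB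
  have hBS : B ≤ S := by
    rw [hB, Subgroup.normalClosure, Subgroup.closure_le]
    intro z hz
    obtain ⟨y', hy', hzc⟩ := Group.mem_conjugatesOfSet_iff.mp hz
    rw [Set.mem_singleton_iff] at hy'
    obtain ⟨g, rfl⟩ := isConj_iff.mp (hy' ▸ hzc)
    exact hSconj g
  have hBp : IsPGroup s B := hSp.to_le hBS
  have hyB : y ∈ B := Subgroup.subset_normalClosure rfl
  set M : Subgroup G := B ⊓ Subgroup.centralizer (R : Set G) with hM
  have hPE : ∀ {p : ℕ} {K : Subgroup G}, IsPGroup p K → p.Prime → ∀ {a : G}, a ∈ K → PE p a := by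
    intro p K hK hp a ha
    haveI := Fact.mk hp
    obtain ⟨k, hk⟩ := IsPGroup.iff_orderOf.mp hK ⟨a, ha⟩
    exact ⟨k, by rw [← hk, Subgroup.orderOf_mk]⟩
  have hMy : ∀ e ∈ B, e ∈ cen y → e ∈ M := fun e he hey =>
    ⟨he, Subgroup.mem_centralizer_iff.mpr fun a ha =>
      (hcom e hey a (hRU ha) (hPE hBp hs he) (hPE hRp hr ha)).symm⟩
  have hyM : y ∈ M := hMy y hyB (self_mem_cen y)
  have hMB : M = B := by
    by_contra hne
    haveI : Group.IsNilpotent B := hBp.isNilpotent
    have hlt : M.subgroupOf B < ⊤ := lt_top_iff_ne_top.mpr fun h =>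
      hne (le_antisymm inf_le_left (Subgroup.subgroupOf_eq_top.mp h))
    obtain ⟨ν, hνn, hνM⟩ := SetLike.exists_of_lt (Group.normalizerCondition_of_isNilpotent _ hlt)
    refine hνM ?_
    rw [Subgroup.mem_subgroupOf]
    refine ⟨ν.2, Subgroup.mem_centralizer_iff.mpr fun a ha => ?_⟩
    set c := a * (ν : G) * a⁻¹ * (ν : G)⁻¹ with hc
    have haν : a * (ν : G) * a⁻¹ ∈ B := Subgroup.normalClosure_normal.conj_mem _ ν.2 a
    have hcB : c ∈ B := B.mul_mem haν (B.inv_mem ν.2)
    have hay : a * y * a⁻¹ = y := by rw [mem_cen.mp (hRU ha)]; group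
    have hy'' : (ν : G)⁻¹ * y * ν ∈ M := by
      have := (Subgroup.mem_normalizer_iff.mp (Subgroup.inv_mem _ hνn) ⟨y, hyB⟩).mp
        (by rw [Subgroup.mem_subgroupOf]; exact hyM)
      rw [Subgroup.mem_subgroupOf] at this
      simpa using this
    have hc1 : a * ((ν : G)⁻¹ * y * ν) * a⁻¹ = (ν : G)⁻¹ * y * ν := by
      rw [Subgroup.mem_centralizer_iff.mp hy''.2 a ha]; group
    have hcy : c * y * c⁻¹ = y := by
      calc c * y * c⁻¹ = a * (ν : G) * (a⁻¹ * ((ν : G)⁻¹ * y * ν) * a) * (ν : G)⁻¹ * a⁻¹ := by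
            rw [hc]; group
        _ = a * (ν : G) * ((ν : G)⁻¹ * y * ν) * (ν : G)⁻¹ * a⁻¹ := by
            rw [show a⁻¹ * ((ν : G)⁻¹ * y * ν) * a = (ν : G)⁻¹ * y * ν by
              conv_lhs => rw [← hc1]
              group]
        _ = a * y * a⁻¹ := by group
        _ = y := hay
    have hcM : c ∈ M := hMy c hcB (mem_cen.mpr (mul_inv_eq_iff_eq_mul.mp hcy))
    have hac : a * c = c * a := Subgroup.mem_centralizer_iff.mp hcM.2 a ha
    have hpow : ∀ k : ℕ, a ^ k * (ν : G) = c ^ k * ν * a ^ k := by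
      intro k
      induction k with
      | zero => simp
      | succ k ih =>
        calc a ^ (k + 1) * (ν : G) = a ^ k * (a * ν) := by rw [pow_succ, mul_assoc]
          _ = a ^ k * (c * ν * a) := by rw [hc]; group
          _ = c * (a ^ k * ν) * a := by
            rw [← mul_assoc, ← mul_assoc, (Commute.pow_left hac k).eq]; group
          _ = c ^ (k + 1) * ν * a ^ (k + 1) := by rw [ih, pow_succ a, pow_succ']; group
    have h1 : c ^ orderOf a = 1 := by
      have := hpow (orderOf a)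
      rw [pow_orderOf_eq_one, one_mul, mul_one] at this
      exact mul_eq_right.mp this.symm
    have h2 : c = 1 := by
      rw [← orderOf_eq_one_iff]
      exact Nat.eq_one_of_dvd_coprimes ((hPE hBp hs hcB).coprime' hs hr hrs.symm (hPE hRp hr ha))
        dvd_rfl (orderOf_dvd_of_pow_eq_one h1)
    rw [hc, mul_inv_eq_one, mul_inv_eq_iff_eq_mul] at h2
    exact h2
  refine ⟨R, hRp, fun e he => hRall e ?_ he⟩
  obtain ⟨g, -, hg⟩ := exists_conj_of_relIndex (F := cen y) (W := ⊤) hr
    (by rw [Subgroup.relIndex_top_right, hy]; exact H.not_dvd_m_of_dvd_n hr hrn)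
    (Subgroup.mem_top e) he
  have hgR := hRall _ hg (he.conj g)
  have hgy : g * y * g⁻¹ ∈ M := hMB ▸ Subgroup.normalClosure_normal.conj_mem y hyB g
  have h3 : g * e * g⁻¹ ∈ cen (g * y * g⁻¹) :=
    mem_cen.mpr (Subgroup.mem_centralizer_iff.mp hgy.2 _ hgR)
  simpa [mul_assoc] using mem_cen_conj' (a := g⁻¹) h3

/-- The conclusion in the good case. -/
theorem nilpotent_of_good {x : G} {r : ℕ} (hr : r.Prime) (hxr : PE r x) (hx : (cen x).index = n)
    (hrn : r ∣ n) : Group.IsNilpotent G ∧ IsPrimePow n ∧ IsPrimePow m := by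
  obtain ⟨s, hs, ⟨b, hb⟩, hy, -, -⟩ := H.good_structure hr hxr hx hrn
  obtain ⟨y, t, ht, hty, hym⟩ := H.symm.exists_primary
  obtain ⟨rfl, -⟩ := hy y t ht hty hym
  have hb0 : b ≠ 0 := fun h => H.hm.ne' (by rw [hb, h, pow_zero])
  have hsm : t ∣ m := hb ▸ dvd_pow_self t hb0
  obtain ⟨r', hr', ⟨a, ha⟩, hx', -, -⟩ := H.symm.good_structure ht hty hym hsm
  obtain ⟨rfl, -⟩ := hx' x r hr hxr hx
  have ha0 : a ≠ 0 := fun h => H.hn.ne' (by rw [ha, h, pow_zero])
  have hne : r ≠ t := fun h => H.not_dvd_m_of_dvd_n hr hrn (h ▸ hsm)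
  refine ⟨?_, isPrimePow_nat_iff n |>.mpr ⟨r, a, hr, Nat.pos_of_ne_zero ha0, ha.symm⟩,
    isPrimePow_nat_iff m |>.mpr ⟨t, b, ht, Nat.pos_of_ne_zero hb0, hb.symm⟩⟩
  have hall : ∀ p : ℕ, p.Prime → ∃ R : Subgroup G, IsPGroup p R ∧ ∀ e, PE p e → e ∈ R := by
    intro p hp
    by_cases hpr : p = r
    · exact hpr ▸ H.exists_pgroup_all hr ht hne hrn hsm hxr hty hx hym
    by_cases hpt : p = t
    · exact hpt ▸ H.symm.exists_pgroup_all ht hr hne.symm hsm hrn hty hxr hym hx
    haveI := Fact.mk hp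
    obtain ⟨R⟩ := (inferInstance : Nonempty (Sylow p G))
    have hcentral : ∀ e, PE p e → e ∈ Subgroup.center G := by
      refine fun e he => mem_center_of_not_dvd hp (fun g hd => ?_) he
      have hnm : p ∣ n * m := by
        rcases H.val g with e | e | e | e <;> rw [e] at hd
        · exact absurd hd hp.not_dvd_one
        · exact hd.mul_right m
        · exact hd.mul_left n
        · exact hd
      rcases hp.dvd_mul.mp hnm with h | h
      · exact hpr ((Nat.prime_dvd_prime_iff_eq hp hr).mp (hp.dvd_of_dvd_pow (ha ▸ h)))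
      · exact hpt ((Nat.prime_dvd_prime_iff_eq hp ht).mp (hp.dvd_of_dvd_pow (hb ▸ h)))
    refine ⟨(R : Subgroup G), R.isPGroup', fun e he => ?_⟩
    obtain ⟨k, hk⟩ := he
    obtain ⟨g, hg⟩ := TwoClassSizes.exists_conj_mem R hk
    have : g * e * g⁻¹ = e := by
      rw [Subgroup.mem_center_iff.mp (hcentral e ⟨k, hk⟩) g]; group
    rwa [this] at hg
  refine Group.isNilpotent_of_finite_tfae.out 3 0 rfl rfl |>.mp ?_
  intro p hp P
  haveI := hp
  obtain ⟨R, hR, hRall⟩ := hall p hp.out
  have key : ∀ Q : Sylow p G, (Q : Subgroup G) = R := fun Q => by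
    refine (Q.is_maximal' hR fun e he => hRall e ?_).symm
    obtain ⟨k, hk⟩ := IsPGroup.iff_orderOf.mp Q.isPGroup' ⟨e, he⟩
    exact ⟨k, by rw [← hk, Subgroup.orderOf_mk]⟩
  haveI : Subsingleton (Sylow p G) := ⟨fun P Q => Sylow.ext ((key P).trans (key Q).symm)⟩
  exact P.normal_of_subsingleton

end Cfg

end CfsgLib.ConjType
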