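import Cfsg.Agent.Lib.TwoClassSizes.Structure
import Cfsg.Agent.Lib.TwoClassSizes.Normal
import Cfsg.Agent.Lib.PPrimeAbelian.Tools

/-!
Tools for groups with prescribed class sizes: Sylow subgroups inside subgroups of index prime to
`q`, and subgroups in which many centralizers have index prime to `r`.
-/

set_option autoImplicit false
set_option linter.style.haveILetI false
set_option linter.unusedSectionVars false

open scoped Pointwise

namespace CfsgLib.ConjType

open CfsgLib.CentMaxNormal (cen mem_cen mem_cen_comm self_mem_cen center_le_cen cen_le_cen_of_mem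
  mem_zpowers_mul mem_of_prime_power_parts)

variable {G : Type*} [Group G]

/-- The order of `g` is a power of `p`. -/
def PE (p : ℕ) (g : G) : Prop := ∃ k : ℕ, orderOf g = p ^ k

theorem PE.conj {p : ℕ} {g : G} (h : PE p g) (a : G) : PE p (a * g * a⁻¹) := by
  obtain ⟨k, hk⟩ := h
  exact ⟨k, by
    rw [← hk]
    exact orderOf_injective (MulAut.conj a).toMonoidHom (MulAut.conj a).injective g⟩

theorem PE.coprime {p : ℕ} {a b : G} (h : PE p a) (hb : (orderOf b).Coprime p) :
    (orderOf a).Coprime (orderOf b) := by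
  obtain ⟨k, hk⟩ := h
  rw [hk]
  exact (hb.symm).pow_left k

theorem PE.coprime' {p q : ℕ} (hp : p.Prime) (hq : q.Prime) (hne : p ≠ q) {a b : G} (h : PE p a)
    (h' : PE q b) : (orderOf a).Coprime (orderOf b) := by
  obtain ⟨j, hj⟩ := h'
  exact h.coprime (hj ▸ ((Nat.coprime_primes hq hp).mpr hne.symm).pow_left j)

theorem PE.coprime_prime {p q : ℕ} (hp : p.Prime) (hq : q.Prime) (hne : p ≠ q) {a : G}
    (h : PE p a) : (orderOf a).Coprime q := by
  obtain ⟨k, hk⟩ := h
  rw [hk]
  exact ((Nat.coprime_primes hp hq).mpr hne).pow_left k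

theorem cen_mul_of_coprime {a b : G} (hc : Commute a b)
    (hcop : (orderOf a).Coprime (orderOf b)) : cen (a * b) = cen a ⊓ cen b := by
  refine le_antisymm (le_inf (cen_le_cen_of_mem (mem_zpowers_mul hc hcop)) ?_) fun g hg => ?_
  · rw [hc.eq]
    exact cen_le_cen_of_mem (mem_zpowers_mul hc.symm hcop.symm)
  · have h1 : Commute g a := mem_cen.mp hg.1
    have h2 : Commute g b := mem_cen.mp hg.2
    exact mem_cen.mpr (h1.mul_right h2)

theorem mem_cen_conj' {a x y : G} (h : y ∈ cen x) : a * y * a⁻¹ ∈ cen (a * x * a⁻¹) := by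
  rw [TwoClassSizes.mem_cen_conj]
  simpa [mul_assoc] using h

theorem index_cen_conj (a x : G) : (cen (a * x * a⁻¹)).index = (cen x).index := by
  rw [← TwoClassSizes.map_cen]
  exact Subgroup.index_map_of_bijective (f := (MulAut.conj a).toMonoidHom)
    (MulAut.conj a).bijective _

/-- The centralizer of an element inside a subgroup. -/
theorem cen_subtype {W : Subgroup G} (g : W) : cen g = (cen (g : G)).subgroupOf W := by
  ext z
  rw [Subgroup.mem_subgroupOf, mem_cen, mem_cen]
  exact Subtype.ext_iff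

theorem cen_subtype_index {W : Subgroup G} (g : W) :
    (cen g).index = (cen (g : G)).relIndex W := by
  rw [cen_subtype]; rfl

variable [Finite G]

/-- A `q`-element of `W` has a conjugate in every subgroup of index prime to `q` in `W`. -/
theorem exists_conj_of_relIndex {F W : Subgroup G} {q : ℕ} (hqp : q.Prime)
    (hq : ¬ q ∣ F.relIndex W) {w : G} (hw : w ∈ W) (hwq : PE q w) :
    ∃ h ∈ W, h * w * h⁻¹ ∈ F := by
  haveI := Fact.mk hqp
  obtain ⟨k, hk⟩ := hwq
  set w' : W := ⟨w, hw⟩
  have hP : IsPGroup q (Subgroup.zpowers w') := IsPGroup.of_card (n := k) (by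
    rw [Nat.card_zpowers, ← Subgroup.orderOf_coe]; exact hk)
  have hcard : ¬ q ∣ Nat.card (W ⧸ F.subgroupOf W) := hq
  obtain ⟨c, hc⟩ := hP.nonempty_fixed_point_of_prime_not_dvd_card (W ⧸ F.subgroupOf W) hcard
  induction c using QuotientGroup.induction_on with
  | H z =>
    have h1 := hc ⟨w', Subgroup.mem_zpowers w'⟩
    replace h1 : ((w' * z : W) : W ⧸ F.subgroupOf W) = ((z : W) : W ⧸ F.subgroupOf W) := h1
    rw [QuotientGroup.eq, Subgroup.mem_subgroupOf] at h1
    refine ⟨((z : W) : G)⁻¹, W.inv_mem z.2, ?_⟩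
    have h2 := F.inv_mem h1
    simpa [mul_assoc, w'] using h2

/-- A normal subgroup contains every `q`-element of a subgroup in which its index is prime
to `q`. -/
theorem mem_of_relIndex {K H : Subgroup G} [hK : K.Normal] {q : ℕ} (hqp : q.Prime)
    (hq : ¬ q ∣ K.relIndex H) {w : G} (hw : w ∈ H) (hwq : PE q w) : w ∈ K := by
  obtain ⟨h, -, hh⟩ := exists_conj_of_relIndex hqp hq hw hwq
  have := hK.conj_mem _ hh h⁻¹
  simpa [mul_assoc] using this

/-- If `F` contains all `q`-elements of `C` then its index in `C` is prime to `q`. -/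
theorem not_dvd_relIndex {F C : Subgroup G} {q : ℕ} (hqp : q.Prime)
    (h : ∀ e ∈ C, PE q e → e ∈ F) : ¬ q ∣ F.relIndex C := by
  haveI := Fact.mk hqp
  obtain ⟨T⟩ := (inferInstance : Nonempty (Sylow q C))
  intro hd
  refine T.not_dvd_index (hd.trans (Subgroup.index_dvd_of_le ?_))
  intro e he
  rw [Subgroup.mem_subgroupOf]
  refine h e e.2 ?_
  obtain ⟨k, hk⟩ := IsPGroup.iff_orderOf.mp T.isPGroup' ⟨e, he⟩
  exact ⟨k, by rw [← hk, ← Subgroup.orderOf_coe (⟨e, he⟩ : (T : Subgroup C)), Subgroup.orderOf_coe e]⟩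

/-- A subgroup of index prime to `q` contains a Sylow `q`-subgroup. -/
theorem exists_sylow_le {W : Subgroup G} {q : ℕ} [Fact q.Prime] (hq : ¬ q ∣ W.index) :
    ∃ P : Sylow q G, (P : Subgroup G) ≤ W := by
  obtain ⟨P⟩ := (inferInstance : Nonempty (Sylow q G))
  obtain ⟨T⟩ := (inferInstance : Nonempty (Sylow q W))
  obtain ⟨Q, hQ⟩ := (T.2.map W.subtype).exists_le_sylow
  refine ⟨Q, ?_⟩
  have hv : (Nat.card G).factorization q = (Nat.card W).factorization q := by
    rw [← Subgroup.card_mul_index W, Nat.factorization_mul Nat.card_pos.ne'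
      Subgroup.index_ne_zero_of_finite]
    simp [Nat.factorization_eq_zero_of_not_dvd hq]
  have heq : (T : Subgroup W).map W.subtype = (Q : Subgroup G) := by
    refine Subgroup.eq_of_le_of_card_ge hQ (le_of_eq ?_)
    rw [Q.card_eq_multiplicity, Subgroup.card_map_of_injective W.subtype_injective,
      T.card_eq_multiplicity, hv]
  exact heq ▸ Subgroup.map_subtype_le _

/-- Two subgroups of coprime indices: their product is everything. -/
theorem coprime_split {A B : Subgroup G} (hcop : A.index.Coprime B.index) :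
    (A ⊓ B).index = A.index * B.index ∧ ∀ g : G, ∃ a ∈ A, ∃ b ∈ B, g = a * b := by
  have hidx : (A ⊓ B).index = A.index * B.index := by
    refine le_antisymm Subgroup.index_inf_le (Nat.le_of_dvd
      (Nat.pos_of_ne_zero Subgroup.index_ne_zero_of_finite) ?_)
    exact hcop.mul_dvd_of_dvd_of_dvd (Subgroup.index_dvd_of_le inf_le_left)
      (Subgroup.index_dvd_of_le inf_le_right)
  refine ⟨hidx, ?_⟩
  have hrel : B.relIndex A = B.index := by
    have h1 := Subgroup.relIndex_mul_index (inf_le_left : A ⊓ B ≤ A)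
    rw [hidx, Subgroup.inf_relIndex_left, mul_comm A.index] at h1
    exact mul_right_cancel₀ Subgroup.index_ne_zero_of_finite h1
  let f : A ⧸ B.subgroupOf A → G ⧸ B := Quotient.map' (fun a : A => (a : G)) fun a b h => by
    rw [QuotientGroup.leftRel_apply] at h ⊢
    exact h
  have hinj : Function.Injective f := by
    intro u v
    induction u using QuotientGroup.induction_on with
    | H a =>
      induction v using QuotientGroup.induction_on with
      | H b =>
        intro h
        exact QuotientGroup.eq.mpr (QuotientGroup.eq.mp h : (a : G)⁻¹ * b ∈ B)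
  have hb : Function.Bijective f := (Nat.bijective_iff_injective_and_card f).mpr ⟨hinj, hrel⟩
  intro g
  obtain ⟨u, hu⟩ := hb.surjective (g : G ⧸ B)
  induction u using QuotientGroup.induction_on with
  | H a =>
    exact ⟨a, a.2, (a : G)⁻¹ * g, QuotientGroup.eq.mp hu, by group⟩

/-- If every element of order prime to `r` centralizes a Sylow `r`-subgroup then the Sylow
`r`-subgroup is normal and centralized by all these elements. -/
theorem separation {r : ℕ} [Fact r.Prime]
    (h : ∀ g : G, (orderOf g).Coprime r → ¬ r ∣ (cen g).index) (R : Sylow r G) :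
    (R : Subgroup G).Normal ∧ ∀ a ∈ (R : Subgroup G), ∀ b : G, (orderOf b).Coprime r →
      a * b = b * a := by
  have hr : r.Prime := Fact.out
  set C := Subgroup.centralizer ((R : Subgroup G) : Set G) with hC
  have htop : (R : Subgroup G) ⊔ C = ⊤ := by
    refine TwoClassSizes.eq_top_of_conj_cover fun g => ?_
    obtain ⟨a, b, hg, ha, hb, hak, hbc⟩ := PPrimeAbelian.exists_split hr g
    have hab : a ∈ cen b := by
      obtain ⟨i, rfl⟩ := Subgroup.mem_zpowers_iff.mp ha
      obtain ⟨j, rfl⟩ := Subgroup.mem_zpowers_iff.mp hb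
      exact mem_cen.mpr (((Commute.refl g).zpow_left i).zpow_right j).eq
    obtain ⟨P, hP⟩ := exists_sylow_le (h b hbc)
    obtain ⟨k, hk⟩ := hak
    obtain ⟨t, ht, ht'⟩ := exists_conj_of_relIndex (F := (P : Subgroup G)) (W := cen b) hr
      (fun hd => P.not_dvd_index (hd.trans (by
        exact Dvd.intro _ (Subgroup.relIndex_mul_index hP))))
      hab ⟨k, hk⟩
    obtain ⟨s, hs⟩ := MulAction.exists_smul_eq G P R
    have htb : t * b * t⁻¹ = b := by rw [mem_cen.mp ht]; group
    have key : ∀ u ∈ (P : Subgroup G), s * u * s⁻¹ ∈ (R : Subgroup G) := fun u hu => by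
      rw [← hs, Sylow.coe_subgroup_smul]
      exact Subgroup.smul_mem_pointwise_smul u (MulAut.conj s) _ hu
    refine ⟨(s * t)⁻¹, ?_⟩
    have e : ((s * t)⁻¹)⁻¹ * g * (s * t)⁻¹ = (s * (t * a * t⁻¹) * s⁻¹) * (s * b * s⁻¹) := by
      calc ((s * t)⁻¹)⁻¹ * g * (s * t)⁻¹
          = (s * (t * a * t⁻¹) * s⁻¹) * (s * (t * b * t⁻¹) * s⁻¹) := by rw [hg]; group
        _ = _ := by rw [htb]
    rw [e]
    refine Subgroup.mul_mem_sup (key _ ht') (Subgroup.mem_centralizer_iff.mpr fun u hu => ?_)
    obtain ⟨v, hv, rfl⟩ : ∃ v ∈ (P : Subgroup G), s * v * s⁻¹ = u := by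
      rw [SetLike.mem_coe, ← hs, Sylow.coe_subgroup_smul] at hu
      obtain ⟨v, hv, rfl⟩ := hu
      exact ⟨v, hv, rfl⟩
    exact mem_cen.mp (mem_cen_conj' (hP hv))
  have hN : (R : Subgroup G).Normal := by
    refine Subgroup.normalizer_eq_top_iff.mp (top_unique (htop ▸ sup_le Subgroup.le_normalizer ?_))
    intro c hc
    rw [Subgroup.mem_normalizer_iff]
    intro u
    constructor
    · intro hu
      rw [← hc u hu, mul_inv_cancel_right]
      exact hu
    · intro hu
      have h1 := hc _ hu
      have : c * u * c⁻¹ = u := by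
        have h2 : c * (c * u * c⁻¹) = c * (u) := by rw [← h1]; group
        exact mul_left_cancel h2
      rwa [this] at hu
  refine ⟨hN, fun a ha b hb => ?_⟩
  obtain ⟨P, hP⟩ := exists_sylow_le (h b hb)
  haveI := @Unique.instSubsingleton _ (Sylow.unique_of_normal R hN)
  rw [Subsingleton.elim P R] at hP
  exact mem_cen.mp (hP ha)

/-- A prime dividing no class size has central elements. -/
theorem mem_center_of_not_dvd {t : ℕ} (ht : t.Prime) (h : ∀ g : G, ¬ t ∣ (cen g).index) {e : G}
    (he : PE t e) : e ∈ Subgroup.center G := by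
  haveI := Fact.mk ht
  obtain ⟨R⟩ := (inferInstance : Nonempty (Sylow t G))
  obtain ⟨hN, -⟩ := separation (fun g _ => h g) R
  haveI := @Unique.instSubsingleton _ (Sylow.unique_of_normal R hN)
  have hR : ∀ g : G, (R : Subgroup G) ≤ cen g := fun g => by
    obtain ⟨P, hP⟩ := exists_sylow_le (h g)
    rwa [Subsingleton.elim P R] at hP
  obtain ⟨k, hk⟩ := he
  obtain ⟨s, hs⟩ := TwoClassSizes.exists_conj_mem R hk
  refine Subgroup.mem_center_iff.mpr fun g => ?_
  have h1 := hR (s * g * s⁻¹) hs
  rw [mem_cen] at h1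
  have : s * (e * g) * s⁻¹ = s * (g * e) * s⁻¹ := by
    calc s * (e * g) * s⁻¹ = (s * e * s⁻¹) * (s * g * s⁻¹) := by group
      _ = (s * g * s⁻¹) * (s * e * s⁻¹) := h1
      _ = _ := by group
  exact (mul_left_cancel (mul_right_cancel this)).symm

end CfsgLib.ConjType
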